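import Cfsg.Agent.Helper20.PrimeDeg

/-!
# Burnside's theorem on transitive permutation groups of prime degree
-/

set_option autoImplicit false

namespace Cfsg.Agent.Helper20

section affine
variable {p : ℕ} [hp : Fact p.Prime]

/-- A group embedding into the affine maps of `F_p` is solvable. -/
theorem isSolvable_of_affine {G : Type*} [Group G] (φ : G →* Equiv.Perm (ZMod p))
    (hφ : Function.Injective φ)
    (haff : ∀ g x, φ g x = (φ g 1 - φ g 0) * x + φ g 0) : Group.IsSolvable G := by
  have hne : ∀ g, φ g 1 - φ g 0 ≠ 0 := fun g =>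
    sub_ne_zero.mpr (fun h => one_ne_zero ((φ g).injective h))
  let μ : G →* (ZMod p)ˣ := MonoidHom.mk' (fun g => Units.mk0 (φ g 1 - φ g 0) (hne g)) (by
    intro g h
    apply Units.ext
    rw [Units.val_mul, Units.val_mk0, Units.val_mk0, Units.val_mk0, map_mul,
      Equiv.Perm.mul_apply, Equiv.Perm.mul_apply, haff g (φ h 1), haff g (φ h 0)]
    ring)
  have hμ : ∀ g, g ∈ μ.ker → ∀ x, φ g x = x + φ g 0 := by
    intro g hg x
    have h1 : φ g 1 - φ g 0 = 1 := by
      have := (MonoidHom.mem_ker).mp hg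
      have h2 := congrArg (fun u : (ZMod p)ˣ => (u : ZMod p)) this
      simpa [μ] using h2
    rw [haff g x, h1, one_mul]
  haveI : Group.IsSolvable μ.ker := by
    apply Group.isSolvable_of_comm
    intro a b
    apply Subtype.ext
    apply hφ
    ext x
    have ha : ∀ x, φ (a : G) x = x + φ (a : G) 0 := hμ a a.2
    have hb : ∀ x, φ (b : G) x = x + φ (b : G) 0 := hμ b b.2
    rw [Subgroup.coe_mul, Subgroup.coe_mul, map_mul, map_mul, Equiv.Perm.mul_apply,
      Equiv.Perm.mul_apply, ha (φ (b : G) x), hb x, hb (φ (a : G) x), ha x]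
    ring
  exact Group.isSolvable_of_ker_le_range μ.ker.subtype μ (by rw [Subgroup.range_subtype])

variable {α : Type*} [Fintype α] [DecidableEq α]

/-- transport of permutations of `α` to permutations of `F_p`. -/
def conjHom (e : ZMod p ≃ α) : Equiv.Perm α →* Equiv.Perm (ZMod p) :=
  (e.symm.permCongrHom : Equiv.Perm α ≃* Equiv.Perm (ZMod p)).toMonoidHom

theorem conjHom_apply (e : ZMod p ≃ α) (g : Equiv.Perm α) (x : ZMod p) :
    conjHom e g x = e.symm (g (e x)) := rfl

theorem conjHom_injective (e : ZMod p ≃ α) : Function.Injective (conjHom e) :=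
  (e.symm.permCongrHom : Equiv.Perm α ≃* Equiv.Perm (ZMod p)).injective

theorem isSolvable_of_conj_affine (e : ZMod p ≃ α) (G : Subgroup (Equiv.Perm α))
    (h : ∀ g ∈ G, ∀ x, conjHom e g x = (conjHom e g 1 - conjHom e g 0) * x + conjHom e g 0) :
    Group.IsSolvable G := by
  apply isSolvable_of_affine ((conjHom e).comp G.subtype)
  · exact (conjHom_injective e).comp G.subtype_injective
  · intro g x
    exact h g.1 g.2 x

/-- A transitive group of prime degree `p` contains a `p`-cycle, along which the points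
can be coordinatized by `F_p`. -/
theorem exists_coord (hα : Fintype.card α = p) (G : Subgroup (Equiv.Perm α))
    [MulAction.IsPretransitive G α] :
    ∃ (e : ZMod p ≃ α) (t : Equiv.Perm α), t ∈ G ∧ ∀ i, t (e i) = e (i + 1) := by
  classical
  have hpos : 0 < Fintype.card α := by rw [hα]; exact hp.out.pos
  obtain ⟨a0⟩ : Nonempty α := Fintype.card_pos_iff.mp hpos
  have hdvd : p ∣ Nat.card G := by
    have h1 := MulAction.index_stabilizer_of_transitive G a0
    rw [Nat.card_eq_fintype_card, hα] at h1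
    rw [← h1]
    exact Subgroup.index_dvd_card _
  obtain ⟨t0, ht0⟩ := exists_prime_orderOf_dvd_card' p hdvd
  have hto : orderOf (t0 : Equiv.Perm α) = p := by rw [Subgroup.orderOf_coe]; exact ht0
  have hcyc : (t0 : Equiv.Perm α).IsCycle :=
    Equiv.Perm.isCycle_of_prime_order'' (by rw [hα]; exact hp.out) (by rw [hto, hα])
  have hsupp : (t0 : Equiv.Perm α).support = Finset.univ := by
    apply Finset.eq_univ_of_card
    rw [← hcyc.orderOf, hto, hα]
  have hmove : ∀ x, (t0 : Equiv.Perm α) x ≠ x := by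
    intro x
    have : x ∈ (t0 : Equiv.Perm α).support := by rw [hsupp]; exact Finset.mem_univ x
    exact Equiv.Perm.mem_support.mp this
  let φ : ZMod p → α := fun i => ((t0 : Equiv.Perm α) ^ i.val) a0
  have hsurj : Function.Surjective φ := by
    intro y
    obtain ⟨n, hn⟩ := hcyc.exists_pow_eq (hmove a0) (hmove y)
    refine ⟨(n : ZMod p), ?_⟩
    show ((t0 : Equiv.Perm α) ^ (n : ZMod p).val) a0 = y
    rw [ZMod.val_natCast, ← hto, pow_mod_orderOf, hn]
  have hbij : Function.Bijective φ :=
    (Fintype.bijective_iff_surjective_and_card φ).mpr ⟨hsurj, by rw [ZMod.card, hα]⟩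
  refine ⟨Equiv.ofBijective φ hbij, (t0 : Equiv.Perm α), t0.2, fun i => ?_⟩
  show (t0 : Equiv.Perm α) (((t0 : Equiv.Perm α) ^ i.val) a0) = ((t0 : Equiv.Perm α) ^ (i + 1).val) a0
  rw [← Equiv.Perm.mul_apply, ← pow_succ']
  have : (t0 : Equiv.Perm α) ^ (i.val + 1) = (t0 : Equiv.Perm α) ^ (i + 1).val := by
    rw [pow_eq_pow_iff_modEq, hto, ← ZMod.natCast_eq_natCast_iff]
    simp
  rw [this]

/-- **Burnside**: a transitive permutation group of prime degree which is not
doubly transitive is solvable. -/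
theorem isSolvable_of_not_two_transitive (hα : Fintype.card α = p) (G : Subgroup (Equiv.Perm α))
    [MulAction.IsPretransitive G α] (h2 : ¬ MulAction.IsMultiplyPretransitive G α 2) :
    Group.IsSolvable G := by
  classical
  rw [MulAction.is_two_pretransitive_iff] at h2
  push Not at h2
  obtain ⟨a, b, c, d, hab, hcd, hno⟩ := h2
  obtain ⟨e, t, htG, ht⟩ := exists_coord hα G
  -- translations
  have htr : ∀ z : ZMod p, ∃ τ ∈ G, ∀ x, conjHom e τ x = x + z := by
    have hpow : ∀ n : ℕ, ∀ x, conjHom e (t ^ n) x = x + (n : ZMod p) := by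
      intro n
      induction n with
      | zero => intro x; simp
      | succ n ih =>
        intro x
        rw [pow_succ, map_mul, Equiv.Perm.mul_apply, ih, conjHom_apply, ht, Equiv.symm_apply_apply,
          Nat.cast_succ]
        ring
    intro z
    refine ⟨t ^ z.val, G.pow_mem htG _, fun x => ?_⟩
    rw [hpow, ZMod.natCast_zmod_val]
  let R : ZMod p → ZMod p → Prop := fun y x =>
    ∃ g ∈ G, conjHom e g (e.symm a) = y ∧ conjHom e g (e.symm b) = x
  have hR1 : ∀ y x z, R y x → R (y + z) (x + z) := by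
    rintro y x z ⟨g, hg, hgy, hgx⟩
    obtain ⟨τ, hτ, hτz⟩ := htr z
    refine ⟨τ * g, G.mul_mem hτ hg, ?_, ?_⟩
    · rw [map_mul, Equiv.Perm.mul_apply, hgy, hτz]
    · rw [map_mul, Equiv.Perm.mul_apply, hgx, hτz]
  have hR2 : ∀ y x, R y x ↔ R 0 (x - y) := by
    intro y x
    constructor
    · intro h
      have := hR1 y x (-y) h
      rwa [add_neg_cancel, ← sub_eq_add_neg] at this
    · intro h
      have := hR1 0 (x - y) y h
      rwa [zero_add, sub_add_cancel] at this
  have hR3 : ∀ h ∈ G, ∀ y x, R y x → R (conjHom e h y) (conjHom e h x) := by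
    rintro h hh y x ⟨g, hg, hgy, hgx⟩
    refine ⟨h * g, G.mul_mem hh hg, ?_, ?_⟩
    · rw [map_mul, Equiv.Perm.mul_apply, hgy]
    · rw [map_mul, Equiv.Perm.mul_apply, hgx]
  let S : Finset (ZMod p) := Finset.univ.filter (fun s => R 0 s)
  have hS : ∀ s, s ∈ S ↔ R 0 s := by
    intro s
    simp [S]
  have h0S : (0 : ZMod p) ∉ S := by
    rw [hS]
    rintro ⟨g, hg, hgy, hgx⟩
    apply hab
    have := (conjHom e g).injective (hgy.trans hgx.symm)
    exact e.symm.injective this
  have hneS : S.Nonempty := by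
    refine ⟨e.symm b - e.symm a, ?_⟩
    rw [hS, ← hR2]
    exact ⟨1, G.one_mem, by simp, by simp⟩
  have hc0 : e.symm d - e.symm c ≠ 0 := by
    rw [sub_ne_zero]
    intro h
    exact hcd (e.symm.injective h).symm
  have hcS : e.symm d - e.symm c ∉ S := by
    rw [hS, ← hR2]
    rintro ⟨g, hg, hgy, hgx⟩
    apply hno ⟨g, hg⟩
    · rw [conjHom_apply, Equiv.apply_symm_apply] at hgy
      exact e.symm.injective hgy
    · rw [conjHom_apply, Equiv.apply_symm_apply] at hgx
      exact e.symm.injective hgx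
  apply isSolvable_of_conj_affine e G
  intro h hh
  apply affine_of_diff_set S h0S hneS _ hc0 hcS
  intro x y
  rw [hS, hS, ← hR2, ← hR2]
  constructor
  · exact hR3 h hh y x
  · intro hr
    have := hR3 h⁻¹ (G.inv_mem hh) _ _ hr
    have hinv : ∀ z, conjHom e h⁻¹ (conjHom e h z) = z := by
      intro z
      rw [← Equiv.Perm.mul_apply, ← map_mul, inv_mul_cancel, map_one, Equiv.Perm.one_apply]
    rw [hinv, hinv] at this
    exact this

end affine

end Cfsg.Agent.Helper20
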