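import Mathlib
import Cfsg.Agent.S3501
import Cfsg.Agent.Helper20.MinNormal

set_option autoImplicit false

namespace Cfsg.Agent.Helper20

open MulAction

/-- Decomposition of a non-simple minimal normal subgroup `N` with trivial centraliser:
`N = A × B` (internal), with `A` centre-free, both factors nontrivial; extended version
also giving minimality of `A` among `N`-invariant subgroups and the conjugate dichotomy. -/
theorem decomp2 {G : Type*} [Group G] [Finite G] (N : Subgroup G) [hNn : N.Normal] (hN1 : N ≠ ⊥)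
    (hNmin : ∀ M : Subgroup G, M.Normal → M ≤ N → M = ⊥ ∨ M = N)
    (hC : Subgroup.centralizer (N : Set G) = ⊥) (hNns : ¬ IsSimpleGroup N) :
    ∃ A B : Subgroup G, A ≠ ⊥ ∧ B ≠ ⊥ ∧ A ≤ N ∧ B ≤ N ∧ A ⊓ B = ⊥ ∧
      (∀ a ∈ A, ∀ b ∈ B, a * b = b * a) ∧
      (∀ n ∈ N, ∃ a ∈ A, ∃ b ∈ B, n = a * b) ∧
      (∀ z ∈ A, (∀ a ∈ A, a * z = z * a) → z = 1) ∧
      (∀ n ∈ N, ∀ a ∈ A, n * a * n⁻¹ ∈ A) ∧
      (∀ M : Subgroup G, M ≠ ⊥ → M ≤ A → (∀ n ∈ N, ∀ m ∈ M, n * m * n⁻¹ ∈ M) → M = A) ∧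
      (∀ g : G, (∀ a ∈ A, g * a * g⁻¹ ∈ A) ∨ (∀ a ∈ A, g * a * g⁻¹ ∈ B)) ∧
      (∃ g : G, ∀ a ∈ A, g * a * g⁻¹ ∈ B) := by
  classical
  obtain ⟨A, ⟨hA1, hAN, hAnorm⟩, hAmin⟩ := S3501.exists_min_card
    (fun A : Subgroup G => A ≠ ⊥ ∧ A ≤ N ∧ ∀ n ∈ N, ∀ a ∈ A, n * a * n⁻¹ ∈ A)
    ⟨N, hN1, le_rfl, fun n hn a ha => hNn.conj_mem a ha n⟩
  have hdich : ∀ g : G, (∀ a ∈ A, g * a * g⁻¹ ∈ A) ∨
      (∀ a ∈ A, ∀ y ∈ A, (g * a * g⁻¹) * y = y * (g * a * g⁻¹)) := by
    intro g
    let A' : Subgroup G := A.map (MulAut.conj g).toMonoidHom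
    have hA'mem : ∀ z, z ∈ A' ↔ ∃ a ∈ A, g * a * g⁻¹ = z := by
      intro z
      simp [A', Subgroup.mem_map, MulAut.conj_apply]
    have hA'N : ∀ n ∈ N, ∀ z ∈ A', n * z * n⁻¹ ∈ A' := by
      intro n hn z hz
      obtain ⟨a, ha, rfl⟩ := (hA'mem z).mp hz
      refine (hA'mem _).mpr ⟨(g⁻¹ * n * g) * a * (g⁻¹ * n * g)⁻¹, hAnorm _ ?_ a ha, by group⟩
      have := hNn.conj_mem n hn g⁻¹
      simpa using this
    by_cases hM : A' ⊓ A = ⊥
    · right
      intro a ha y hy
      have h1 : g * a * g⁻¹ ∈ A' := (hA'mem _).mpr ⟨a, ha, rfl⟩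
      have hc : (g * a * g⁻¹) * y * (g * a * g⁻¹)⁻¹ * y⁻¹ ∈ A' ⊓ A := by
        constructor
        · have h2 : y * (g * a * g⁻¹)⁻¹ * y⁻¹ ∈ A' := hA'N y (hAN hy) _ (A'.inv_mem h1)
          have h3 := A'.mul_mem h1 h2
          have e : (g * a * g⁻¹) * y * (g * a * g⁻¹)⁻¹ * y⁻¹ =
              g * a * g⁻¹ * (y * (g * a * g⁻¹)⁻¹ * y⁻¹) := by group
          rw [e]; exact h3
        · have hz : g * a * g⁻¹ ∈ N := hNn.conj_mem a (hAN ha) g
          have h2 : (g * a * g⁻¹) * y * (g * a * g⁻¹)⁻¹ ∈ A := hAnorm _ hz y hy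
          exact A.mul_mem h2 (A.inv_mem hy)
      rw [hM, Subgroup.mem_bot] at hc
      have h4 := mul_inv_eq_one.mp hc
      exact mul_inv_eq_iff_eq_mul.mp h4
    · left
      have hMA : A' ⊓ A = A := by
        apply hAmin _ ⟨hM, inf_le_right.trans hAN, ?_⟩ inf_le_right
        intro n hn z hz
        exact ⟨hA'N n hn z hz.1, hAnorm n hn z hz.2⟩
      have hle : A ≤ A' := by rw [← hMA]; exact inf_le_left
      have hcard : Nat.card A' = Nat.card A :=
        Subgroup.card_map_of_injective (MulAut.conj g).injective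
      have heq : A = A' := Subgroup.eq_of_le_of_card_ge hle hcard.le
      intro a ha
      rw [heq]
      exact (hA'mem _).mpr ⟨a, ha, rfl⟩
  obtain ⟨B, hBdef⟩ : ∃ B : Subgroup G, B = N ⊓ Subgroup.centralizer (A : Set G) := ⟨_, rfl⟩
  have hBmem : ∀ z, z ∈ B ↔ z ∈ N ∧ z ∈ Subgroup.centralizer (A : Set G) := by
    intro z; rw [hBdef]; exact Iff.rfl
  have hcomm : ∀ a ∈ A, ∀ b ∈ B, a * b = b * a := by
    intro a ha b hb
    exact Subgroup.mem_centralizer_iff.mp ((hBmem b).mp hb).2 a ha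
  have hNAB : N ≤ A ⊔ B := by
    have hncl : Subgroup.normalClosure (A : Set G) = N := by
      rcases hNmin (Subgroup.normalClosure (A : Set G)) Subgroup.normalClosure_normal
        (Subgroup.normalClosure_le_normal hAN) with h | h
      · exfalso
        apply hA1
        rw [eq_bot_iff, ← h]
        exact Subgroup.le_normalClosure
      · exact h
    rw [← hncl, Subgroup.normalClosure, Subgroup.closure_le]
    intro z hz
    rw [Group.mem_conjugatesOfSet_iff] at hz
    obtain ⟨a, ha, hconj'⟩ := hz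
    obtain ⟨g, rfl⟩ := isConj_iff.mp hconj'
    rcases hdich g with h | h
    · exact Subgroup.mem_sup_left (h a ha)
    · apply Subgroup.mem_sup_right
      rw [hBmem]
      refine ⟨hNn.conj_mem a (hAN ha) g, ?_⟩
      rw [Subgroup.mem_centralizer_iff]
      intro y hy
      exact (h a ha y hy).symm
  have hAB : A ⊓ B = ⊥ := by
    by_contra hZ
    have hZA : A ⊓ B = A := by
      apply hAmin _ ⟨hZ, inf_le_left.trans hAN, ?_⟩ inf_le_left
      intro n hn z hz
      have hzB := (hBmem z).mp hz.2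
      refine ⟨hAnorm n hn z hz.1, (hBmem _).mpr ⟨hNn.conj_mem z hzB.1 n, ?_⟩⟩
      rw [Subgroup.mem_centralizer_iff]
      intro a ha
      have h1 : n⁻¹ * a * n ∈ A := by
        have := hAnorm n⁻¹ (N.inv_mem hn) a ha
        simpa using this
      have h2 := Subgroup.mem_centralizer_iff.mp hzB.2 _ h1
      calc a * (n * z * n⁻¹) = n * ((n⁻¹ * a * n) * z) * n⁻¹ := by group
        _ = n * (z * (n⁻¹ * a * n)) * n⁻¹ := by rw [h2]
        _ = n * z * n⁻¹ * a := by group
    have hAleB : A ≤ B := by rw [← hZA]; exact inf_le_right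
    have hNB : N ≤ B := hNAB.trans (sup_le hAleB le_rfl)
    apply hA1
    rw [eq_bot_iff, ← hC]
    intro a ha
    rw [Subgroup.mem_centralizer_iff]
    intro n hn
    exact ((Subgroup.mem_centralizer_iff.mp ((hBmem n).mp (hNB hn)).2) a ha).symm
  have hB1 : B ≠ ⊥ := by
    intro hB
    have hNA : N = A := le_antisymm (by rw [hB, sup_bot_eq] at hNAB; exact hNAB) hAN
    apply hNns
    haveI : Nontrivial N := (Subgroup.nontrivial_iff_ne_bot N).mpr hN1
    refine { exists_pair_ne := exists_pair_ne N, eq_bot_or_eq_top_of_normal := fun H hH => ?_ }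
    by_cases hHb : H = ⊥
    · exact Or.inl hHb
    · right
      have hP : H.map N.subtype = A := by
        apply hAmin
        · refine ⟨?_, ?_, ?_⟩
          · intro h
            apply hHb
            exact (Subgroup.map_eq_bot_iff_of_injective H N.subtype_injective).mp h
          · exact Subgroup.map_subtype_le H
          · intro n hn z hz
            obtain ⟨y, hy, rfl⟩ := hz
            exact ⟨⟨n, hn⟩ * y * ⟨n, hn⟩⁻¹, hH.conj_mem y hy ⟨n, hn⟩, rfl⟩
        · rw [← hNA]; exact Subgroup.map_subtype_le H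
      rw [eq_top_iff]
      intro y _
      have hy : (y : G) ∈ H.map N.subtype := by rw [hP, ← hNA]; exact y.2
      obtain ⟨y', hy', hyy⟩ := hy
      have : y' = y := Subtype.ext hyy
      rw [← this]; exact hy'
  have hdich' : ∀ g : G, (∀ a ∈ A, g * a * g⁻¹ ∈ A) ∨ (∀ a ∈ A, g * a * g⁻¹ ∈ B) := by
    intro g
    rcases hdich g with h | h
    · exact Or.inl h
    · right
      intro a ha
      rw [hBmem]
      refine ⟨hNn.conj_mem a (hAN ha) g, ?_⟩
      rw [Subgroup.mem_centralizer_iff]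
      intro y hy
      exact (h a ha y hy).symm
  have hexg : ∃ g : G, ∀ a ∈ A, g * a * g⁻¹ ∈ B := by
    by_contra hno
    push Not at hno
    have hAnormal : A.Normal := by
      constructor
      intro a ha g
      rcases hdich' g with h | h
      · exact h a ha
      · exact absurd h (by
          obtain ⟨a', ha', hn'⟩ := hno g
          intro hh
          exact hn' (hh a' ha'))
    rcases hNmin A hAnormal hAN with h | h
    · exact hA1 h
    · apply hB1
      rw [eq_bot_iff, ← hC]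
      intro z hz
      have hz' := (hBmem z).mp hz
      rw [h] at hz'
      exact hz'.2
  refine ⟨A, B, hA1, hB1, hAN, ?_, hAB, hcomm, ?_, ?_, hAnorm, ?_, hdich', hexg⟩
  · intro b hb; exact ((hBmem b).mp hb).1
  · let φ : A × B →* G := MonoidHom.noncommCoprod A.subtype B.subtype
      (fun a b => hcomm a a.2 b b.2)
    have hφ : ∀ (a : A) (b : B), φ (a, b) = (a : G) * (b : G) := fun a b => rfl
    have hle : A ⊔ B ≤ φ.range := by
      apply sup_le
      · intro a ha; exact ⟨(⟨a, ha⟩, 1), by simp [hφ]⟩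
      · intro b hb; exact ⟨(1, ⟨b, hb⟩), by simp [hφ]⟩
    intro n hn
    obtain ⟨⟨a, b⟩, hab⟩ := hle (hNAB hn)
    exact ⟨a, a.2, b, b.2, by rw [← hab, hφ]⟩
  · intro z hzA hzc
    have hzAB : z ∈ A ⊓ B :=
      ⟨hzA, (hBmem z).mpr ⟨hAN hzA, Subgroup.mem_centralizer_iff.mpr (fun k hk => hzc k hk)⟩⟩
    rw [hAB, Subgroup.mem_bot] at hzAB
    exact hzAB
  · intro M hM1 hMA hMinv
    exact hAmin M ⟨hM1, hMA.trans hAN, hMinv⟩ hMA

end Cfsg.Agent.Helper20
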