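import Mathlib
import Cfsg.Agent.S0035
import Cfsg.Agent.S3680
import Cfsg.Agent.Helper20.MinNormal2
import Cfsg.Agent.Helper20.TwoModFour

set_option autoImplicit false

namespace Cfsg.Agent.Helper20.Burnside2T

open MulAction
open scoped Pointwise

/-- A finite group with trivial centre cannot have all its nonidentity conjugacy classes of the
same size. -/
theorem equal_class_false {X : Type*} [Group X] [Finite X]
    (hcf : ∀ z : X, (∀ x : X, x * z = z * x) → z = 1) (a₁ : X) (ha₁ : a₁ ≠ 1)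
    (hs : ∀ a : X, a ≠ 1 →
      Set.ncard {y : X | IsConj a y} = Set.ncard {y : X | IsConj a₁ y}) : False := by
  classical
  obtain ⟨s, hsdef⟩ : ∃ s, s = Set.ncard {y : X | IsConj a₁ y} := ⟨_, rfl⟩
  have h1 : s ∣ Nat.card X := by
    have e : {y : X | IsConj a₁ y} = MulAction.orbit (ConjAct X) a₁ := by
      ext y
      rw [ConjAct.mem_orbit_conjAct]
      exact isConj_comm
    rw [hsdef, e, ← MulAction.index_stabilizer]
    exact Subgroup.index_dvd_card _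
  have h2 : s ∣ Nat.card X - 1 := by
    have hce := Group.nat_card_center_add_sum_card_noncenter_eq_card X
    have hc1 : Nat.card (Subgroup.center X) = 1 := by
      rw [Subgroup.card_eq_one, Subgroup.eq_bot_iff_forall]
      intro z hz
      exact hcf z (fun x => Subgroup.mem_center_iff.mp hz x)
    have hsum : s ∣ ∑ᶠ x ∈ ConjClasses.noncenter X, Nat.card x.carrier := by
      haveI : Fintype (ConjClasses X) := Fintype.ofFinite _
      rw [finsum_mem_eq_finite_toFinset_sum _ (Set.toFinite _)]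
      apply Finset.dvd_sum
      intro x hx
      rw [Set.Finite.mem_toFinset] at hx
      obtain ⟨a, rfl⟩ := ConjClasses.mk_surjective x
      have hcar : (ConjClasses.mk a).carrier = {y : X | IsConj a y} := by
        ext y
        rw [ConjClasses.mem_carrier_iff_mk_eq, ConjClasses.mk_eq_mk_iff_isConj]
        exact isConj_comm
      have ha : a ≠ 1 := by
        rintro rfl
        have hnt : (ConjClasses.mk (1 : X)).carrier.Nontrivial := hx
        rw [hcar] at hnt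
        obtain ⟨u, hu, v, hv, huv⟩ := hnt
        apply huv
        have hu' : IsConj (1 : X) u := hu
        have hv' : IsConj (1 : X) v := hv
        rw [isConj_iff] at hu' hv'
        obtain ⟨c, hc⟩ := hu'
        obtain ⟨c', hc'⟩ := hv'
        rw [← hc, ← hc']; group
      rw [hcar, Nat.card_coe_set_eq, hs a ha, ← hsdef]
    rw [hc1] at hce
    have : Nat.card X - 1 = ∑ᶠ x ∈ ConjClasses.noncenter X, Nat.card x.carrier := by omega
    rw [this]; exact hsum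
  have h3 : s = 1 := by
    have hpos : 0 < Nat.card X := Nat.card_pos
    have h4 : s ∣ Nat.card X - (Nat.card X - 1) := Nat.dvd_sub h1 h2
    rw [show Nat.card X - (Nat.card X - 1) = 1 from by omega] at h4
    exact Nat.dvd_one.mp h4
  apply ha₁
  apply hcf
  intro x
  have hmem1 : a₁ ∈ {y : X | IsConj a₁ y} := IsConj.refl a₁
  have hmem2 : x * a₁ * x⁻¹ ∈ {y : X | IsConj a₁ y} := isConj_iff.mpr ⟨x, rfl⟩
  rw [hsdef] at h3
  obtain ⟨w, hw⟩ := Set.ncard_eq_one.mp h3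
  rw [hw] at hmem1 hmem2
  have e1 : a₁ = w := hmem1
  have e2 : x * a₁ * x⁻¹ = w := hmem2
  calc x * a₁ = (x * a₁ * x⁻¹) * x := by group
    _ = a₁ * x := by rw [e2, ← e1]

variable {G : Type*} [Group G] [Finite G] {Ω : Type*} [Fintype Ω] [MulAction G Ω]
  [FaithfulSMul G Ω]

omit [Finite G] [Fintype Ω] [MulAction G Ω] [FaithfulSMul G Ω] in
theorem orderOf_conj_mul' (c a : G) : orderOf (c * a * c⁻¹) = orderOf a := by
  have := (MulAut.conj c).orderOf_eq a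
  rwa [MulAut.conj_apply] at this

omit [Finite G] [Fintype Ω] [FaithfulSMul G Ω] in
/-- two-transitivity: the point stabiliser is transitive on the remaining points. -/
theorem stab_trans (h2 : IsMultiplyPretransitive G Ω 2) (α : Ω) {ω ω' : Ω} (hω : ω ≠ α)
    (hω' : ω' ≠ α) : ∃ h ∈ stabilizer G α, h • ω = ω' := by
  obtain ⟨g, hg1, hg2⟩ := (is_two_pretransitive_iff.mp h2) hω.symm hω'.symm
  exact ⟨g, hg1, hg2⟩

omit [FaithfulSMul G Ω] [Fintype Ω] in
/-- A regular normal subgroup of a 2-transitive group has nontrivial centre. -/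
theorem regular_center (h2 : IsMultiplyPretransitive G Ω 2) (N : Subgroup G) [hNn : N.Normal]
    (hN1 : N ≠ ⊥) (α : Ω) (hreg : ∀ n ∈ N, n • α = α → n = 1) :
    ∃ z ∈ N, z ≠ 1 ∧ ∀ x ∈ N, x * z = z * x := by
  classical
  haveI : Nontrivial N := (Subgroup.nontrivial_iff_ne_bot N).mpr hN1
  have hconj : ∀ n ∈ N, n ≠ 1 → ∀ n' ∈ N, n' ≠ 1 → orderOf n = orderOf n' := by
    intro n hn hn1 n' hn' hn'1
    have h1 : n • α ≠ α := fun h => hn1 (hreg n hn h)
    have h1' : n' • α ≠ α := fun h => hn'1 (hreg n' hn' h)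
    obtain ⟨h, hh, hh2⟩ := stab_trans h2 α h1 h1'
    have h3 : (h * n * h⁻¹) • α = n' • α := by
      rw [mul_smul, mul_smul, (Subgroup.inv_mem _ hh : h⁻¹ • α = α)]; exact hh2
    have h4 : n'⁻¹ * (h * n * h⁻¹) = 1 :=
      hreg _ (N.mul_mem (N.inv_mem hn') (hNn.conj_mem n hn h))
        (by rw [mul_smul, h3, inv_smul_smul])
    have h5 : n' = h * n * h⁻¹ := inv_mul_eq_one.mp h4
    rw [h5]; exact (orderOf_conj_mul' h n).symm
  obtain ⟨p, hp, hpd⟩ := Nat.exists_prime_and_dvd (show Nat.card N ≠ 1 from by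
    have := Finite.one_lt_card (α := N); omega)
  haveI : Fact p.Prime := ⟨hp⟩
  obtain ⟨x₀, hx₀⟩ := exists_prime_orderOf_dvd_card' p hpd
  have hx₀1 : (x₀ : G) ≠ 1 := by
    intro h
    have : x₀ = 1 := Subtype.ext h
    rw [this, orderOf_one] at hx₀; exact hp.ne_one hx₀.symm
  have hpg : IsPGroup p N := by
    intro x
    refine ⟨1, ?_⟩
    rw [pow_one]
    by_cases hx1 : x = 1
    · rw [hx1, one_pow]
    · have hxG1 : (x : G) ≠ 1 := fun h => hx1 (Subtype.ext h)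
      have := hconj x x.2 hxG1 x₀ x₀.2 hx₀1
      rw [Subgroup.orderOf_coe, Subgroup.orderOf_coe, hx₀] at this
      rw [← this]; exact pow_orderOf_eq_one x
  haveI := IsPGroup.center_nontrivial hpg
  obtain ⟨z, hz⟩ := exists_ne (1 : Subgroup.center N)
  refine ⟨((z : N) : G), (z : N).2, ?_, ?_⟩
  · intro h; apply hz; exact Subtype.ext (Subtype.ext h)
  · intro x hx
    have := Subgroup.mem_center_iff.mp z.2 ⟨x, hx⟩
    exact congrArg Subtype.val this

/-- The decomposition `N = A × B` of a nonsimple minimal normal subgroup is impossible in a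
2-transitive group. -/
theorem nonsimple_false (h2 : IsMultiplyPretransitive G Ω 2) (N : Subgroup G) [hNn : N.Normal]
    (α : Ω) (hNtr : ∀ ω : Ω, ∃ n ∈ N, n • α = ω)
    (A B : Subgroup G) (hA1 : A ≠ ⊥) (hAN : A ≤ N) (hBN : B ≤ N)
    (hcomm : ∀ a ∈ A, ∀ b ∈ B, a * b = b * a) (hdec : ∀ n ∈ N, ∃ a ∈ A, ∃ b ∈ B, n = a * b)
    (hcf : ∀ z ∈ A, (∀ a ∈ A, a * z = z * a) → z = 1)
    (hAnorm : ∀ n ∈ N, ∀ a ∈ A, n * a * n⁻¹ ∈ A)
    (hdich : ∀ g : G, (∀ a ∈ A, g * a * g⁻¹ ∈ A) ∨ (∀ a ∈ A, g * a * g⁻¹ ∈ B))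
    (hexg : ∃ g : G, ∀ a ∈ A, g * a * g⁻¹ ∈ B) : False := by
  classical
  have hHact : ∀ h ∈ stabilizer G α, ∀ g : G, h • (g • α) = (h * g * h⁻¹) • α := by
    intro h hh g
    rw [mul_smul, mul_smul, (Subgroup.inv_mem _ hh : h⁻¹ • α = α)]
  obtain ⟨a₀, ha₀, ha₀α⟩ : ∃ a ∈ A, a • α ≠ α := by
    by_contra hno; push Not at hno
    apply hA1
    rw [Subgroup.eq_bot_iff_forall]
    intro a ha
    apply S3680.eq_one_of_fixes_all (Ω := Ω)
    intro ω
    obtain ⟨n, hn, rfl⟩ := hNtr ω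
    have h1 := hno _ (hAnorm n⁻¹ (N.inv_mem hn) a ha)
    calc a • n • α = n • ((n⁻¹ * a * n⁻¹⁻¹) • α) := by simp [mul_smul]
      _ = n • α := by rw [h1]
  have hcover : ∀ ω : Ω, (∃ a ∈ A, a • α = ω) ∨ (∃ b ∈ B, b • α = ω) := by
    intro ω
    by_cases hω : ω = α
    · left; exact ⟨1, A.one_mem, by rw [one_smul, hω]⟩
    · obtain ⟨h, hh, hh2⟩ := stab_trans h2 α ha₀α hω
      rw [hHact h hh] at hh2
      rcases hdich h with h1 | h1
      · left; exact ⟨_, h1 a₀ ha₀, hh2⟩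
      · right; exact ⟨_, h1 a₀ ha₀, hh2⟩
  have hBtr : ∀ ω : Ω, ∃ b ∈ B, b • α = ω := by
    by_cases hb : ∃ b₀ ∈ B, ¬ ∃ a ∈ A, a • α = b₀ • α
    · obtain ⟨b₀, hb₀, hb₀A⟩ := hb
      have hAB' : ∀ a ∈ A, ∃ b ∈ B, b • α = a • α := by
        intro a ha
        rcases hcover ((a * b₀) • α) with ⟨a', ha', h1⟩ | ⟨b', hb', h1⟩
        · exfalso
          apply hb₀A
          refine ⟨a⁻¹ * a', A.mul_mem (A.inv_mem ha) ha', ?_⟩
          rw [mul_smul, h1, mul_smul, inv_smul_smul]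
        · refine ⟨b₀⁻¹ * b', B.mul_mem (B.inv_mem hb₀) hb', ?_⟩
          rw [mul_smul, h1, hcomm a ha b₀ hb₀, mul_smul, inv_smul_smul]
      intro ω
      rcases hcover ω with ⟨a, ha, h1⟩ | h1
      · obtain ⟨b, hb, h2'⟩ := hAB' a ha
        exact ⟨b, hb, h2'.trans h1⟩
      · exact h1
    · push Not at hb
      have hAtr : ∀ ω : Ω, ∃ a ∈ A, a • α = ω := by
        intro ω
        rcases hcover ω with h1 | ⟨b, hb', h1⟩
        · exact h1
        · obtain ⟨a, ha, h2'⟩ := hb b hb'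
          exact ⟨a, ha, h2'.trans h1⟩
      obtain ⟨g, hg⟩ := hexg
      intro ω
      obtain ⟨a₁, ha₁, h1⟩ := hAtr (g⁻¹ • α)
      obtain ⟨a₂, ha₂, h2'⟩ := hAtr (g⁻¹ • ω)
      refine ⟨g * (a₂ * a₁⁻¹) * g⁻¹, hg _ (A.mul_mem ha₂ (A.inv_mem ha₁)), ?_⟩
      rw [mul_smul, mul_smul, mul_smul, ← h1, inv_smul_smul, h2', smul_inv_smul]
  have hBtr' : IsPretransitive B Ω := ⟨fun x y => by
    obtain ⟨b, hb, hbx⟩ := hBtr x
    obtain ⟨b', hb', hby⟩ := hBtr y
    refine ⟨⟨b' * b⁻¹, B.mul_mem hb' (B.inv_mem hb)⟩, ?_⟩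
    show (b' * b⁻¹) • x = y
    rw [← hbx, mul_smul, inv_smul_smul, hby]⟩
  have hAreg : ∀ a ∈ A, ∀ ω : Ω, a • ω = ω → a = 1 := fun a ha ω hω =>
    S3680.eq_one_of_commute_of_fix B hBtr' (fun v hv => hcomm a ha v hv) hω
  have hAinj : ∀ a ∈ A, ∀ a' ∈ A, a • α = a' • α → a = a' := by
    intro a ha a' ha' h
    have h1 : (a'⁻¹ * a) • α = α := by rw [mul_smul, h, inv_smul_smul]
    have h2' := hAreg _ (A.mul_mem (A.inv_mem ha') ha) α h1
    exact (inv_mul_eq_one.mp h2').symm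
  obtain ⟨OD, hOD⟩ : ∃ OD : Ω → Set Ω, ∀ ω ω', ω' ∈ OD ω ↔ ∃ d ∈ N, d • α = α ∧ d • ω = ω' :=
    ⟨fun ω => {ω' | ∃ d ∈ N, d • α = α ∧ d • ω = ω'}, fun _ _ => Iff.rfl⟩
  obtain ⟨Cl, hCl⟩ : ∃ Cl : G → Set G, ∀ a y, y ∈ Cl a ↔ ∃ x ∈ A, y = x * a * x⁻¹ :=
    ⟨fun a => {y | ∃ x ∈ A, y = x * a * x⁻¹}, fun _ _ => Iff.rfl⟩
  have hclaim1 : ∀ a ∈ A, OD (a • α) = (fun g : G => g • α) '' Cl a := by
    intro a ha
    ext ω'
    rw [hOD, Set.mem_image]
    constructor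
    · rintro ⟨d, hd, hdα, rfl⟩
      obtain ⟨x, hx, y, hy, rfl⟩ := hdec d hd
      refine ⟨x * a * x⁻¹, (hCl _ _).mpr ⟨x, hx, rfl⟩, ?_⟩
      have e : (x * y) • a • α = ((x * y) * a * (x * y)⁻¹) • ((x * y) • α) := by
        simp [mul_smul]
      have e2 : (x * y) * a * (x * y)⁻¹ = x * a * x⁻¹ := by
        have hc := hcomm a ha y hy
        calc (x * y) * a * (x * y)⁻¹ = x * (y * a) * y⁻¹ * x⁻¹ := by group
          _ = x * (a * y) * y⁻¹ * x⁻¹ := by rw [hc]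
          _ = x * a * x⁻¹ := by group
      show (x * a * x⁻¹) • α = (x * y) • a • α
      rw [e, hdα, e2]
    · rintro ⟨y, hy, rfl⟩
      obtain ⟨x, hx, rfl⟩ := (hCl _ _).mp hy
      obtain ⟨b, hb, hbα⟩ := hBtr (x⁻¹ • α)
      refine ⟨x * b, N.mul_mem (hAN hx) (hBN hb), by rw [mul_smul, hbα, smul_inv_smul], ?_⟩
      show (x * b) • a • α = (x * a * x⁻¹) • α
      rw [← mul_smul, mul_assoc, ← hcomm a ha b hb, ← mul_assoc, mul_smul, hbα, ← mul_smul]
  have hclaim2 : ∀ a ∈ A, (OD (a • α)).ncard = (Cl a).ncard := by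
    intro a ha
    rw [hclaim1 a ha]
    apply Set.InjOn.ncard_image
    intro y hy y' hy' h
    obtain ⟨x, hx, rfl⟩ := (hCl _ _).mp hy
    obtain ⟨x', hx', rfl⟩ := (hCl _ _).mp hy'
    exact hAinj _ (A.mul_mem (A.mul_mem hx ha) (A.inv_mem hx)) _
      (A.mul_mem (A.mul_mem hx' ha) (A.inv_mem hx')) h
  have hclaim3 : ∀ ω ω' : Ω, ω ≠ α → ω' ≠ α → (OD ω).ncard = (OD ω').ncard := by
    intro ω ω' hω hω'
    obtain ⟨h, hh, hh2⟩ := stab_trans h2 α hω hω'
    have hhinv : h⁻¹ • α = α := (stabilizer G α).inv_mem hh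
    have hhα : h • α = α := hh
    have e : OD ω' = (fun x => h • x) '' OD ω := by
      ext z
      rw [hOD, Set.mem_image]
      constructor
      · rintro ⟨d, hd, hdα, rfl⟩
        refine ⟨(h⁻¹ * d * h⁻¹⁻¹) • ω,
          (hOD _ _).mpr ⟨h⁻¹ * d * h⁻¹⁻¹, hNn.conj_mem d hd h⁻¹, ?_, rfl⟩, ?_⟩
        · rw [mul_smul, mul_smul, inv_inv, hhα, hdα, hhinv]
        · show h • (h⁻¹ * d * h⁻¹⁻¹) • ω = d • ω'
          rw [← hh2]; simp [mul_smul]
      · rintro ⟨w, hw, rfl⟩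
        obtain ⟨d, hd, hdα, rfl⟩ := (hOD _ _).mp hw
        refine ⟨h * d * h⁻¹, hNn.conj_mem d hd h, ?_, ?_⟩
        · rw [mul_smul, mul_smul, hhinv, hdα]; exact hh
        · show (h * d * h⁻¹) • ω' = h • d • ω
          rw [← hh2]; simp [mul_smul]
    rw [e]
    exact (Set.ncard_image_of_injective _ (MulAction.injective h)).symm
  have hclass : ∀ a ∈ A, a ≠ 1 → ∀ a' ∈ A, a' ≠ 1 → (Cl a).ncard = (Cl a').ncard := by
    intro a ha ha1 a' ha' ha'1
    rw [← hclaim2 a ha, ← hclaim2 a' ha']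
    exact hclaim3 _ _ (fun h => ha1 (hAreg a ha α h)) (fun h => ha'1 (hAreg a' ha' α h))
  have ha₀1 : a₀ ≠ 1 := fun h => ha₀α (by rw [h, one_smul])
  have hClsub : ∀ a : A, Cl (a : G) = Subtype.val '' {y : A | IsConj a y} := by
    intro a
    ext y
    rw [hCl, Set.mem_image]
    constructor
    · rintro ⟨x, hx, rfl⟩
      exact ⟨⟨x, hx⟩ * a * ⟨x, hx⟩⁻¹, isConj_iff.mpr ⟨⟨x, hx⟩, rfl⟩, rfl⟩
    · rintro ⟨y', hy', rfl⟩
      obtain ⟨c, hc⟩ := isConj_iff.mp hy'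
      exact ⟨c, c.2, by rw [← hc]; rfl⟩
  have hncard : ∀ a : A, (Cl (a : G)).ncard = Set.ncard {y : A | IsConj a y} := by
    intro a
    rw [hClsub a]
    exact Set.ncard_image_of_injective _ Subtype.val_injective
  apply equal_class_false (X := A)
    (fun z hz => Subtype.ext (hcf z z.2 (fun a ha => congrArg Subtype.val (hz ⟨a, ha⟩))))
    ⟨a₀, ha₀⟩ (fun h => ha₀1 (congrArg Subtype.val h))
  intro a ha
  rw [← hncard a, ← hncard ⟨a₀, ha₀⟩]
  exact hclass a a.2 (fun h => ha (Subtype.ext h)) a₀ ha₀ ha₀1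

/-- A nonregular simple normal subgroup of a 2-transitive group is primitive. -/
theorem prim_of_simple (h2 : IsMultiplyPretransitive G Ω 2) (N : Subgroup G) [hNn : N.Normal]
    (hNs : IsSimpleGroup N) (α : Ω) (hNtr : IsPretransitive N Ω)
    (hnr : ∃ n ∈ N, n ≠ 1 ∧ n • α = α) : IsPreprimitive N Ω := by
  classical
  haveI := hNtr
  refine IsPreprimitive.mk (fun {B} hB => ?_)
  by_contra hBt
  rw [IsTrivialBlock, not_or] at hBt
  obtain ⟨hBns, hBnu⟩ := hBt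
  obtain ⟨NB, hNB⟩ : ∃ NB : Set Ω → Prop, ∀ L, NB L ↔
      ∀ n ∈ N, ∀ x ∈ L, n • x ∈ L → ∀ y ∈ L, n • y ∈ L := ⟨_, fun _ => Iff.rfl⟩
  have hNB_B : NB B := by
    rw [hNB]
    intro n hn x hx hnx y hy
    have h1 : (⟨n, hn⟩ : N) • B = B :=
      (isBlock_iff_smul_eq_of_mem.mp hB) (g := (⟨n, hn⟩ : N)) hx hnx
    rw [← h1]
    exact Set.smul_mem_smul_set (a := (⟨n, hn⟩ : N)) hy
  obtain ⟨L₀, ⟨hL₀NB, hL₀ns, hL₀nu⟩, hL₀min⟩ := Set.exists_min_image
    {L : Set Ω | NB L ∧ ¬ L.Subsingleton ∧ L ≠ Set.univ} (fun L => L.ncard) (Set.toFinite _)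
    ⟨B, hNB_B, hBns, hBnu⟩
  obtain ⟨Ln, hLn⟩ : ∃ Ln : Set Ω → Prop, ∀ L, Ln L ↔ NB L ∧ L.ncard = L₀.ncard :=
    ⟨_, fun _ => Iff.rfl⟩
  obtain ⟨x₀, hx₀, y₀, hy₀, hxy₀⟩ : ∃ x₀ ∈ L₀, ∃ y₀ ∈ L₀, x₀ ≠ y₀ := by
    by_contra hno; push Not at hno
    exact hL₀ns (fun a ha b hb => hno a ha b hb)
  have hL₀card : 1 < L₀.ncard := (Set.one_lt_ncard_iff (Set.toFinite _)).mpr
    ⟨x₀, y₀, hx₀, hy₀, hxy₀⟩
  have hd2 : ∀ L, Ln L → L ≠ Set.univ := by
    intro L hL huniv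
    rw [hLn] at hL
    have h1 : L₀.ncard < (Set.univ : Set Ω).ncard :=
      Set.ncard_lt_ncard (Set.ssubset_univ_iff.mpr hL₀nu) (Set.toFinite _)
    rw [huniv] at hL
    omega
  have hLn₀ : Ln L₀ := (hLn _).mpr ⟨hL₀NB, rfl⟩
  have hNBsmul : ∀ (g : G) (L : Set Ω), NB L → NB ((fun x => g • x) '' L) := by
    intro g L hL
    rw [hNB] at hL ⊢
    rintro n hn _ ⟨x, hx, rfl⟩ ⟨x', hx', hx'eq⟩ _ ⟨y, hy, rfl⟩
    have hx'eq' : g • x' = n • g • x := hx'eq
    have h1 : (g⁻¹ * n * g⁻¹⁻¹) • x ∈ L := by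
      have : (g⁻¹ * n * g⁻¹⁻¹) • x = x' := by
        rw [mul_smul, mul_smul, inv_inv, ← hx'eq', inv_smul_smul]
      rw [this]; exact hx'
    have h2' := hL _ (hNn.conj_mem n hn g⁻¹) x hx h1 y hy
    refine ⟨(g⁻¹ * n * g⁻¹⁻¹) • y, h2', ?_⟩
    show g • (g⁻¹ * n * g⁻¹⁻¹) • y = n • g • y
    simp [mul_smul]
  have hLnsmul : ∀ (g : G) (L : Set Ω), Ln L → Ln ((fun x => g • x) '' L) := by
    intro g L hL
    rw [hLn] at hL ⊢
    exact ⟨hNBsmul g L hL.1, by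
      rw [Set.ncard_image_of_injective _ (MulAction.injective g)]; exact hL.2⟩
  have hline : ∀ β γ : Ω, β ≠ γ → ∃ L, Ln L ∧ β ∈ L ∧ γ ∈ L := by
    intro β γ hβγ
    obtain ⟨g, hg1, hg2⟩ := (is_two_pretransitive_iff.mp h2) hxy₀ hβγ
    exact ⟨_, hLnsmul g L₀ hLn₀, ⟨x₀, hx₀, hg1⟩, ⟨y₀, hy₀, hg2⟩⟩
  have huniq : ∀ L L', Ln L → Ln L' → ∀ x y, x ≠ y → x ∈ L → y ∈ L → x ∈ L' → y ∈ L' →
      L = L' := by
    intro L L' hL hL' x y hxy hxL hyL hxL' hyL'
    have hNBi : NB (L ∩ L') := by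
      have h1 := ((hLn L).mp hL).1
      have h1' := ((hLn L').mp hL').1
      rw [hNB] at h1 h1' ⊢
      intro n hn z hz hnz w hw
      exact ⟨h1 n hn z hz.1 hnz.1 w hw.1, h1' n hn z hz.2 hnz.2 w hw.2⟩
    have hins : ¬ (L ∩ L').Subsingleton := fun hs => hxy (hs ⟨hxL, hxL'⟩ ⟨hyL, hyL'⟩)
    have hinu : L ∩ L' ≠ Set.univ := by
      intro hu
      apply hd2 L hL
      apply Set.eq_univ_of_univ_subset
      rw [← hu]; exact Set.inter_subset_left
    have hmin := hL₀min (L ∩ L') ⟨hNBi, hins, hinu⟩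
    have e1 : L ∩ L' = L := Set.eq_of_subset_of_ncard_le Set.inter_subset_left
      (by rw [((hLn L).mp hL).2]; exact hmin) (Set.toFinite _)
    have e2 : L ∩ L' = L' := Set.eq_of_subset_of_ncard_le Set.inter_subset_right
      (by rw [((hLn L').mp hL').2]; exact hmin) (Set.toFinite _)
    exact e1.symm.trans e2
  have hfixline : ∀ n ∈ N, ∀ β : Ω, n • β = β → ∀ L, Ln L → β ∈ L → ∀ y ∈ L, n • y ∈ L := by
    intro n hn β hnβ L hL hβL y hy
    have h1 := ((hLn L).mp hL).1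
    rw [hNB] at h1
    exact h1 n hn β hβL (by rw [hnβ]; exact hβL) y hy
  have hoff : ∀ n ∈ N, ∀ β γ : Ω, β ≠ γ → n • β = β → n • γ = γ → ∀ L, Ln L → β ∈ L → γ ∈ L →
      ∀ δ, δ ∉ L → n • δ = δ := by
    intro n hn β γ hβγ hnβ hnγ L hL hβL hγL δ hδ
    by_contra hne
    have hβδ : β ≠ δ := fun h => hδ (h ▸ hβL)
    have hγδ : γ ≠ δ := fun h => hδ (h ▸ hγL)
    obtain ⟨L₂, hL₂, hβL₂, hδL₂⟩ := hline β δ hβδ
    obtain ⟨L₃, hL₃, hγL₃, hδL₃⟩ := hline γ δ hγδ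
    have h2' := hfixline n hn β hnβ L₂ hL₂ hβL₂ δ hδL₂
    have h3 := hfixline n hn γ hnγ L₃ hL₃ hγL₃ δ hδL₃
    have e23 : L₂ = L₃ :=
      huniq L₂ L₃ hL₂ hL₃ δ (n • δ) (fun h => hne h.symm) hδL₂ h2' hδL₃ h3
    have e12 : L = L₂ := huniq L L₂ hL hL₂ β γ hβγ hβL hγL hβL₂ (e23 ▸ hγL₃)
    exact hδ (e12 ▸ hδL₂)
  have htwo : ∀ n ∈ N, ∀ β γ : Ω, β ≠ γ → n • β = β → n • γ = γ → n = 1 := by
    intro n hn β γ hβγ hnβ hnγ
    obtain ⟨L₁, hL₁, hβL₁, hγL₁⟩ := hline β γ hβγ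
    obtain ⟨δ₀, hδ₀⟩ : ∃ δ₀, δ₀ ∉ L₁ := by
      by_contra hno; push Not at hno
      exact hd2 L₁ hL₁ (Set.eq_univ_of_forall hno)
    have hnδ₀ := hoff n hn β γ hβγ hnβ hnγ L₁ hL₁ hβL₁ hγL₁ δ₀ hδ₀
    have hβδ₀ : β ≠ δ₀ := fun h => hδ₀ (h ▸ hβL₁)
    obtain ⟨L₁', hL₁', hβL₁', hδ₀L₁'⟩ := hline β δ₀ hβδ₀
    apply S3680.eq_one_of_fixes_all (Ω := Ω)
    intro δ
    by_cases hδL : δ ∈ L₁
    · by_cases hδβ : δ = β
      · rw [hδβ]; exact hnβ
      · apply hoff n hn β δ₀ hβδ₀ hnβ hnδ₀ L₁' hL₁' hβL₁' hδ₀L₁' δ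
        intro hδL'
        have e := huniq L₁ L₁' hL₁ hL₁' β δ (fun h => hδβ h.symm) hβL₁ hδL hβL₁' hδL'
        exact hδ₀ (e ▸ hδ₀L₁')
    · exact hoff n hn β γ hβγ hnβ hnγ L₁ hL₁ hβL₁ hγL₁ δ hδL
  obtain ⟨M, hM⟩ : ∃ M : Subgroup N, M = stabilizer N α := ⟨_, rfl⟩
  have hMmem : ∀ n : N, n ∈ M ↔ (n : G) • α = α := by
    intro n; rw [hM]; rfl
  have hfrob : Cfsg.IsFrobeniusComplement M := by
    refine ⟨?_, ?_, ?_⟩
    · obtain ⟨n, hn, hn1, hnα⟩ := hnr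
      intro h
      have : (⟨n, hn⟩ : N) ∈ M := (hMmem _).mpr hnα
      rw [h, Subgroup.mem_bot] at this
      exact hn1 (congrArg Subtype.val this)
    · intro h
      obtain ⟨β, hβ⟩ : ∃ β, β ≠ α := by
        by_cases hx : x₀ = α
        · exact ⟨y₀, fun h' => hxy₀ (hx.trans h'.symm)⟩
        · exact ⟨x₀, hx⟩
      obtain ⟨n, hn⟩ := exists_smul_eq N α β
      have hnM : n ∈ M := by rw [h]; trivial
      rw [hMmem] at hnM
      apply hβ
      rw [← hn]; exact hnM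
    · intro g hg
      rw [Subgroup.eq_bot_iff_forall]
      rintro y ⟨hy1, hy2⟩
      have hy1' : y ∈ M := hy1
      have hy2' : y ∈ MulAut.conj g • M := hy2
      rw [Subgroup.mem_smul_pointwise_iff_exists] at hy2'
      obtain ⟨m, hm, hmy⟩ := hy2'
      have hmy' : g * m * g⁻¹ = y := by simpa [MulAut.smul_def] using hmy
      have h1 : (y : G) • α = α := (hMmem y).mp hy1'
      have h2' : (y : G) • ((g : G) • α) = (g : G) • α := by
        rw [← hmy']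
        have hmα : (m : G) • α = α := (hMmem m).mp hm
        show ((g : G) * (m : G) * (g : G)⁻¹) • ((g : G) • α) = (g : G) • α
        rw [mul_smul, mul_smul, inv_smul_smul, hmα]
      have hgα : (g : G) • α ≠ α := fun h => hg ((hMmem g).mpr h)
      have := htwo (y : G) y.2 α ((g : G) • α) hgα.symm h1 h2'
      exact Subtype.ext this
  obtain ⟨K, -, hKn, hKc⟩ := Cfsg.Agent.S0035.result M hfrob
  rcases hNs.eq_bot_or_eq_top_of_normal K hKn with h | h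
  · rw [h, Subgroup.isComplement'_bot_left] at hKc
    exact hfrob.2.1 hKc
  · rw [h, Subgroup.isComplement'_top_left] at hKc
    exact hfrob.1 hKc

/-- **Burnside's theorem**: a minimal normal subgroup of a finite 2-transitive group is
elementary abelian and regular, or simple and primitive. -/
theorem burnside (h2 : IsMultiplyPretransitive G Ω 2) (N : Subgroup G) [hNn : N.Normal]
    (hN1 : N ≠ ⊥) (hNmin : ∀ M : Subgroup G, M.Normal → M ≤ N → M = ⊥ ∨ M = N) :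
    (IsMulCommutative N ∧ (∃ p : ℕ, p.Prime ∧ ∀ n ∈ N, n ^ p = 1) ∧
      ∀ a : Ω, stabilizer N a = ⊥) ∨
    (IsSimpleGroup N ∧ IsPreprimitive N Ω) := by
  classical
  have hprim : IsPreprimitive G Ω := isPreprimitive_of_is_two_pretransitive h2
  haveI := hprim
  have hNtr : IsPretransitive N Ω := S3680.trans_of_normal N hN1
  obtain ⟨n₁, hn₁, hn₁1⟩ : ∃ n ∈ N, n ≠ 1 := by
    by_contra h; push Not at h
    exact hN1 ((Subgroup.eq_bot_iff_forall N).mpr h)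
  obtain ⟨α, hα⟩ : ∃ α : Ω, n₁ • α ≠ α := by
    by_contra h; push Not at h
    exact hn₁1 (S3680.eq_one_of_fixes_all h)
  have hαt : ∀ ω : Ω, ∃ n ∈ N, n • α = ω := fun ω => by
    obtain ⟨n, hn⟩ := exists_smul_eq N α ω
    exact ⟨n, n.2, hn⟩
  by_cases hNc : IsMulCommutative N
  · left
    have hNc' : ∀ x ∈ N, ∀ y ∈ N, x * y = y * x := by
      intro x hx y hy
      have := hNc.is_comm.comm ⟨x, hx⟩ ⟨y, hy⟩
      exact congrArg Subtype.val this
    have hreg : ∀ ω : Ω, stabilizer N ω = ⊥ := by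
      intro ω
      rw [Subgroup.eq_bot_iff_forall]
      intro x hx
      apply Subtype.ext
      apply S3680.eq_one_of_commute_of_fix N hNtr (c := (x : G)) _ (ω := ω) hx
      intro v hv
      exact hNc' x x.2 v hv
    refine ⟨hNc, ?_, hreg⟩
    haveI : Nontrivial N := (Subgroup.nontrivial_iff_ne_bot N).mpr hN1
    obtain ⟨p, hp, hpd⟩ := Nat.exists_prime_and_dvd (show Nat.card N ≠ 1 from by
      have := Finite.one_lt_card (α := N); omega)
    haveI : Fact p.Prime := ⟨hp⟩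
    obtain ⟨x, hx⟩ := exists_prime_orderOf_dvd_card' p hpd
    let Np : Subgroup G :=
      { carrier := {x | x ∈ N ∧ x ^ p = 1}
        mul_mem' := by
          rintro a b ⟨ha, ha'⟩ ⟨hb, hb'⟩
          refine ⟨N.mul_mem ha hb, ?_⟩
          rw [(show Commute a b from hNc' a ha b hb).mul_pow, ha', hb', one_mul]
        one_mem' := ⟨N.one_mem, one_pow _⟩
        inv_mem' := by
          rintro a ⟨ha, ha'⟩
          exact ⟨N.inv_mem ha, by rw [inv_pow, ha', inv_one]⟩ }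
    have hNp : ∀ x, x ∈ Np ↔ x ∈ N ∧ x ^ p = 1 := fun _ => Iff.rfl
    have hNpn : Np.Normal := ⟨fun y hy g => (hNp _).mpr
      ⟨hNn.conj_mem y ((hNp y).mp hy).1 g, by rw [conj_pow, ((hNp y).mp hy).2]; group⟩⟩
    rcases hNmin Np hNpn (fun y hy => ((hNp y).mp hy).1) with h | h
    · exfalso
      have hxp : (x : G) ^ p = 1 := by
        have := pow_orderOf_eq_one x
        rw [hx] at this
        have h2' := congrArg Subtype.val this
        simpa using h2'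
      have : (x : G) ∈ Np := (hNp _).mpr ⟨x.2, hxp⟩
      rw [h, Subgroup.mem_bot] at this
      have hx1 : x = 1 := Subtype.ext this
      rw [hx1, orderOf_one] at hx
      exact hp.ne_one hx.symm
    · exact ⟨p, hp, fun n hn => ((hNp n).mp (by rw [h]; exact hn)).2⟩
  · right
    have hNc' : ¬ ∀ x ∈ N, ∀ y ∈ N, x * y = y * x :=
      fun h => hNc ⟨⟨fun a b => Subtype.ext (h a a.2 b b.2)⟩⟩
    haveI hCn : (Subgroup.centralizer (N : Set G)).Normal := Subgroup.normal_centralizer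
    have hZN : ∀ z ∈ N, (∀ x ∈ N, x * z = z * x) → z = 1 := by
      intro z hz hzc
      have hn : (N ⊓ Subgroup.centralizer (N : Set G)).Normal := inferInstance
      rcases hNmin _ hn inf_le_left with h | h
      · have : z ∈ N ⊓ Subgroup.centralizer (N : Set G) :=
          ⟨hz, Subgroup.mem_centralizer_iff.mpr (fun x hx => hzc x hx)⟩
        rw [h, Subgroup.mem_bot] at this; exact this
      · exfalso; apply hNc'
        intro x hx y hy
        have : x ∈ N ⊓ Subgroup.centralizer (N : Set G) := by rw [h]; exact hx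
        exact (Subgroup.mem_centralizer_iff.mp this.2 y hy).symm
    have hnr : ∃ n ∈ N, n ≠ 1 ∧ n • α = α := by
      by_contra hno
      push Not at hno
      obtain ⟨z, hz, hz1, hzc⟩ := regular_center h2 N hN1 α
        (fun n hn hnα => by_contra (fun h => hno n hn h hnα))
      exact hz1 (hZN z hz hzc)
    have hC : Subgroup.centralizer (N : Set G) = ⊥ := by
      by_contra hC
      have hCtr : IsPretransitive (Subgroup.centralizer (N : Set G)) Ω :=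
        S3680.trans_of_normal _ hC
      obtain ⟨n, hn, hn1, hnα⟩ := hnr
      apply hn1
      apply S3680.eq_one_of_commute_of_fix _ hCtr _ hnα
      intro v hv
      exact Subgroup.mem_centralizer_iff.mp hv n hn
    have hNs : IsSimpleGroup N := by
      by_contra hNs
      obtain ⟨A, B, hA1, hB1, hAN, hBN, hAB, hcomm, hdec, hcf, hAnorm, hAmin, hdich, hexg⟩ :=
        decomp2 N hN1 hNmin hC hNs
      exact nonsimple_false h2 N α hαt A B hA1 hAN hBN hcomm hdec hcf hAnorm hdich hexg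
    exact ⟨hNs, prim_of_simple h2 N hNs α hNtr hnr⟩

end Cfsg.Agent.Helper20.Burnside2T
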