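import Mathlib
import Cfsg.Prelude.Def_Solvable

/-!
# Abstract Frobenius endgame for groups with two coprime largest class sizes

`cc_bilin`: central commutator with coprime central powers is trivial.
`cc_frob_endgame`: from the structure facts (`A`, `B` abelian, self-centralizing on noncentral
elements, `G = A B`, `A` normal, `a ^ m`, `b ^ n` central with `m`, `n` coprime) the quotient by the
centre is a Frobenius group with complement the image of `B` and kernel the image of `A`.
-/

set_option autoImplicit false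

namespace Cfsg.Agent.Helper20

open Subgroup
open scoped Pointwise

theorem cc_bilin {G : Type*} [Group G] (m n : ℕ) (hcop : m.Coprime n) (a d ζ : G)
    (hζ : ζ ∈ center G) (h : a * d * a⁻¹ = ζ * d) (ham : a ^ m ∈ center G)
    (hdn : d ^ n ∈ center G) : ζ = 1 := by
  have h1 : ∀ j : ℕ, a ^ j * d * (a ^ j)⁻¹ = ζ ^ j * d := by
    intro j
    induction j with
    | zero => simp
    | succ j ih =>
      have e1 : a ^ (j + 1) * d * (a ^ (j + 1))⁻¹ = a * (a ^ j * d * (a ^ j)⁻¹) * a⁻¹ := by
        rw [pow_succ']; group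
      rw [e1, ih]
      have hc : a * ζ ^ j = ζ ^ j * a := Subgroup.mem_center_iff.mp (Subgroup.pow_mem _ hζ j) a
      calc a * (ζ ^ j * d) * a⁻¹ = (a * ζ ^ j) * d * a⁻¹ := by group
        _ = ζ ^ j * (a * d * a⁻¹) := by rw [hc]; group
        _ = ζ ^ j * (ζ * d) := by rw [h]
        _ = ζ ^ (j + 1) * d := by rw [pow_succ]; group
  have h2 : ∀ j : ℕ, a * d ^ j * a⁻¹ = ζ ^ j * d ^ j := by
    intro j
    induction j with
    | zero => simp
    | succ j ih =>
      have e1 : a * d ^ (j + 1) * a⁻¹ = (a * d ^ j * a⁻¹) * (a * d * a⁻¹) := by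
        rw [pow_succ]; group
      rw [e1, ih, h]
      have hc : d ^ j * ζ = ζ * d ^ j := Subgroup.mem_center_iff.mp hζ (d ^ j)
      calc ζ ^ j * d ^ j * (ζ * d) = ζ ^ j * (d ^ j * ζ) * d := by group
        _ = ζ ^ j * (ζ * d ^ j) * d := by rw [hc]
        _ = ζ ^ (j + 1) * d ^ (j + 1) := by rw [pow_succ, pow_succ]; group
  have hm : ζ ^ m = 1 := by
    have e := h1 m
    have hc : a ^ m * d = d * a ^ m := (Subgroup.mem_center_iff.mp ham d).symm
    have e2 : ζ ^ m * d = 1 * d := by
      rw [← e, hc]; group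
    exact mul_right_cancel e2
  have hn : ζ ^ n = 1 := by
    have e := h2 n
    have hc : a * d ^ n = d ^ n * a := Subgroup.mem_center_iff.mp hdn a
    have e2 : ζ ^ n * d ^ n = 1 * d ^ n := by
      rw [← e, hc]; group
    exact mul_right_cancel e2
  have hd := Nat.dvd_gcd (orderOf_dvd_of_pow_eq_one hm) (orderOf_dvd_of_pow_eq_one hn)
  rw [Nat.Coprime] at hcop
  rw [hcop] at hd
  exact orderOf_eq_one_iff.mp (Nat.dvd_one.mp hd)

theorem cc_frob_endgame {G : Type*} [Group G] [Finite G] (A B : Subgroup G) (m n : ℕ)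
    (hcop : m.Coprime n)
    (hAn : ∀ g : G, ∀ a ∈ A, g * a * g⁻¹ ∈ A)
    (hZA : center G ≤ A) (hZB : center G ≤ B)
    (hA : ∀ a ∈ A, a ∉ center G → ∀ c : G, c * a = a * c → c ∈ A)
    (hA' : ∀ a ∈ A, ∀ c ∈ A, c * a = a * c)
    (hB : ∀ b ∈ B, b ∉ center G → ∀ c : G, c * b = b * c → c ∈ B)
    (hB' : ∀ b ∈ B, ∀ c ∈ B, c * b = b * c)
    (hAm : ∀ a ∈ A, a ^ m ∈ center G) (hBn : ∀ b ∈ B, b ^ n ∈ center G)
    (hAB : ∀ g : G, ∃ a ∈ A, ∃ b ∈ B, g = a * b)
    (hBne : ¬ B ≤ center G) :
    IsMulCommutative ↥A ∧ IsMulCommutative ↥B ∧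
    Cfsg.IsFrobeniusComplement (B.map (QuotientGroup.mk' (center G))) ∧
    Cfsg.frobeniusKernel (B.map (QuotientGroup.mk' (center G))) =
      ((A.map (QuotientGroup.mk' (center G)) : Subgroup (G ⧸ center G)) : Set (G ⧸ center G)) := by
  classical
  obtain ⟨b₀, hb₀B, hb₀Z⟩ : ∃ b₀ ∈ B, b₀ ∉ center G := by
    by_contra hcon
    apply hBne
    intro b hb
    by_contra hbz
    exact hcon ⟨b, hb, hbz⟩
  -- B is not everything
  have hBtop : ¬ (∀ g : G, g ∈ B) := by
    intro hall
    apply hb₀Z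
    rw [Subgroup.mem_center_iff]
    intro g
    exact hB' b₀ hb₀B g (hall g)
  -- A ∩ B = Z
  have hint : ∀ w ∈ A, w ∈ B → w ∈ center G := by
    intro w hwA hwB
    by_contra hwZ
    apply hBtop
    intro g
    obtain ⟨a, ha, b, hb, rfl⟩ := hAB g
    have haB : a ∈ B := hB w hwB hwZ a (hA' w hwA a ha)
    exact B.mul_mem haB hb
  -- membership in images
  have hmemB : ∀ g : G, (QuotientGroup.mk' (center G)) g ∈ B.map (QuotientGroup.mk' (center G)) →
      g ∈ B := by
    intro g hg
    obtain ⟨b, hb, hbg⟩ := Subgroup.mem_map.mp hg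
    have hz : b⁻¹ * g ∈ center G := by
      have : ((b : G) : G ⧸ center G) = (g : G ⧸ center G) := hbg
      exact QuotientGroup.eq.mp this
    have : g = b * (b⁻¹ * g) := by group
    rw [this]
    exact B.mul_mem hb (hZB hz)
  have hmemA : ∀ g : G, (QuotientGroup.mk' (center G)) g ∈ A.map (QuotientGroup.mk' (center G)) →
      g ∈ A := by
    intro g hg
    obtain ⟨a, ha, hag⟩ := Subgroup.mem_map.mp hg
    have hz : a⁻¹ * g ∈ center G := by
      have : ((a : G) : G ⧸ center G) = (g : G ⧸ center G) := hag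
      exact QuotientGroup.eq.mp this
    have : g = a * (a⁻¹ * g) := by group
    rw [this]
    exact A.mul_mem ha (hZA hz)
  -- key: c ∈ A, b ∈ B noncentral, c b c⁻¹ b⁻¹ central ⇒ c central
  have hkey : ∀ c ∈ A, ∀ b ∈ B, b ∉ center G → c * b * c⁻¹ * b⁻¹ ∈ center G → c ∈ center G := by
    intro c hc b hb hbZ hz
    have h1 : c * b * c⁻¹ = (c * b * c⁻¹ * b⁻¹) * b := by group
    have hζ := cc_bilin m n hcop c b _ hz h1 (hAm c hc) (hBn b hb)
    have hcb : c * b = b * c := by
      have : c * b * c⁻¹ * b⁻¹ = 1 := hζ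
      calc c * b = (c * b * c⁻¹ * b⁻¹) * (b * c) := by group
        _ = b * c := by rw [this, one_mul]
    exact hint c hc (hB b hb hbZ c hcb)
  refine ⟨⟨⟨fun a b => Subtype.ext (hA' b.1 b.2 a.1 a.2)⟩⟩,
    ⟨⟨fun a b => Subtype.ext (hB' b.1 b.2 a.1 a.2)⟩⟩, ⟨?_, ?_, ?_⟩, ?_⟩
  · -- B̄ ≠ ⊥
    intro hbot
    have : (QuotientGroup.mk' (center G)) b₀ ∈ B.map (QuotientGroup.mk' (center G)) :=
      Subgroup.mem_map_of_mem _ hb₀B
    rw [hbot, Subgroup.mem_bot] at this
    exact hb₀Z ((QuotientGroup.eq_one_iff b₀).mp this)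
  · -- B̄ ≠ ⊤
    intro htop
    apply hBtop
    intro g
    apply hmemB
    rw [htop]
    exact Subgroup.mem_top _
  · -- TI
    intro gq hgq
    obtain ⟨g, rfl⟩ := QuotientGroup.mk'_surjective (center G) gq
    rw [eq_bot_iff]
    intro wq hwq
    obtain ⟨hw1, hw2⟩ := hwq
    rw [Subgroup.mem_bot]
    obtain ⟨b, hb, rfl⟩ := Subgroup.mem_map.mp hw1
    have hw2' : (QuotientGroup.mk' (center G)) b ∈
        (MulAut.conj ((QuotientGroup.mk' (center G)) g) • B.map (QuotientGroup.mk' (center G))) := hw2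
    rw [Subgroup.mem_smul_pointwise_iff_exists] at hw2'
    obtain ⟨s, hs, hsw⟩ := hw2'
    obtain ⟨b', hb', rfl⟩ := Subgroup.mem_map.mp hs
    have hsw' : (QuotientGroup.mk' (center G)) (g * b' * g⁻¹) = (QuotientGroup.mk' (center G)) b := by
      simpa [MulAut.smul_def] using hsw
    have hz : (g * b' * g⁻¹)⁻¹ * b ∈ center G := by
      have : ((g * b' * g⁻¹ : G) : G ⧸ center G) = (b : G ⧸ center G) := hsw'
      exact QuotientGroup.eq.mp this
    by_contra hbne
    have hbZ : b ∉ center G := fun hbz => hbne ((QuotientGroup.eq_one_iff b).mpr hbz)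
    -- g b' g⁻¹ ∈ B
    have hconjB : g * b' * g⁻¹ ∈ B := by
      have : g * b' * g⁻¹ = b * ((g * b' * g⁻¹)⁻¹ * b)⁻¹ := by group
      rw [this]
      exact B.mul_mem hb (B.inv_mem (hZB hz))
    have hb'Z : b' ∉ center G := by
      intro hb'z
      apply hbZ
      have e1 : g * b' * g⁻¹ = b' := by
        have := Subgroup.mem_center_iff.mp hb'z g
        calc g * b' * g⁻¹ = b' * g * g⁻¹ := by rw [this]
          _ = b' := by group
      have : b = b' * ((g * b' * g⁻¹)⁻¹ * b) := by rw [e1]; group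
      rw [this]
      exact (center G).mul_mem hb'z hz
    obtain ⟨a, ha, c, hc, rfl⟩ := hAB g
    set d := c * b' * c⁻¹ with hd
    have hdB : d ∈ B := B.mul_mem (B.mul_mem hc hb') (B.inv_mem hc)
    have hdZ : d ∉ center G := by
      intro hdz
      apply hb'Z
      have e1 : c⁻¹ * d * c = d := by
        have := Subgroup.mem_center_iff.mp hdz c
        calc c⁻¹ * d * c = c⁻¹ * (d * c) := by group
          _ = c⁻¹ * (c * d) := by rw [this]
          _ = d := by group
      have : b' = c⁻¹ * d * c := by rw [hd]; group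
      rw [this, e1]
      exact hdz
    have hadB : a * d * a⁻¹ ∈ B := by
      have : a * d * a⁻¹ = a * c * b' * (a * c)⁻¹ := by rw [hd]; group
      rw [this]
      exact hconjB
    have hζB : a * d * a⁻¹ * d⁻¹ ∈ B := B.mul_mem hadB (B.inv_mem hdB)
    have hζA : a * d * a⁻¹ * d⁻¹ ∈ A := by
      have : a * d * a⁻¹ * d⁻¹ = a * (d * a⁻¹ * d⁻¹) := by group
      rw [this]
      exact A.mul_mem ha (hAn d a⁻¹ (A.inv_mem ha))
    have haZ : a ∈ center G := hkey a ha d hdB hdZ (hint _ hζA hζB)
    apply hgq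
    exact Subgroup.mem_map_of_mem _ (B.mul_mem (hZB haZ) hc)
  · -- kernel
    ext wq
    constructor
    · intro hwq
      obtain ⟨w, rfl⟩ := QuotientGroup.mk'_surjective (center G) wq
      rcases hwq with h1 | hno
      · rw [h1]
        exact Subgroup.one_mem _
      · obtain ⟨a, ha, b, hb, rfl⟩ := hAB w
        by_cases hbZ : b ∈ center G
        · have : (QuotientGroup.mk' (center G)) (a * b) = (QuotientGroup.mk' (center G)) a := by
            have hb1 : (QuotientGroup.mk' (center G)) b = 1 := (QuotientGroup.eq_one_iff b).mpr hbZ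
            rw [map_mul, hb1, mul_one]
          rw [SetLike.mem_coe, this]
          exact Subgroup.mem_map_of_mem _ ha
        · exfalso
          -- the map on the image of A
          let Ab : Subgroup (G ⧸ center G) := A.map (QuotientGroup.mk' (center G))
          let bq : G ⧸ center G := (QuotientGroup.mk' (center G)) b
          have hfmem : ∀ x : Ab, (x : G ⧸ center G) * bq * (x : G ⧸ center G)⁻¹ * bq⁻¹ ∈ Ab := by
            rintro ⟨x, hx⟩
            obtain ⟨a', ha', rfl⟩ := Subgroup.mem_map.mp hx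
            have : (QuotientGroup.mk' (center G)) a' * bq * ((QuotientGroup.mk' (center G)) a')⁻¹ * bq⁻¹
                = (QuotientGroup.mk' (center G)) (a' * (b * a'⁻¹ * b⁻¹)) := by
              simp only [bq, map_mul, map_inv]; group
            rw [this]
            exact Subgroup.mem_map_of_mem _ (A.mul_mem ha' (hAn b a'⁻¹ (A.inv_mem ha')))
          let f : Ab → Ab := fun x => ⟨(x : G ⧸ center G) * bq * (x : G ⧸ center G)⁻¹ * bq⁻¹, hfmem x⟩
          have hfinj : Function.Injective f := by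
            rintro ⟨x, hx⟩ ⟨x', hx'⟩ hxx
            obtain ⟨a₁, ha₁, rfl⟩ := Subgroup.mem_map.mp hx
            obtain ⟨a₂, ha₂, rfl⟩ := Subgroup.mem_map.mp hx'
            have hxx' : (QuotientGroup.mk' (center G)) a₁ * bq * ((QuotientGroup.mk' (center G)) a₁)⁻¹ * bq⁻¹
                = (QuotientGroup.mk' (center G)) a₂ * bq * ((QuotientGroup.mk' (center G)) a₂)⁻¹ * bq⁻¹ :=
              congrArg Subtype.val hxx
            have hxx2 : (QuotientGroup.mk' (center G)) (a₁ * b * a₁⁻¹)
                = (QuotientGroup.mk' (center G)) (a₂ * b * a₂⁻¹) := by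
              have := mul_right_cancel hxx'
              simpa [bq, map_mul, map_inv] using this
            have hz : (a₁ * b * a₁⁻¹)⁻¹ * (a₂ * b * a₂⁻¹) ∈ center G := by
              have : ((a₁ * b * a₁⁻¹ : G) : G ⧸ center G) = ((a₂ * b * a₂⁻¹ : G) : G ⧸ center G) := hxx2
              exact QuotientGroup.eq.mp this
            set c := a₁⁻¹ * a₂ with hc
            have hcA : c ∈ A := A.mul_mem (A.inv_mem ha₁) ha₂
            -- b⁻¹ c b c⁻¹ central
            have hz2 : b⁻¹ * c * b * c⁻¹ ∈ center G := by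
              have e : b⁻¹ * c * b * c⁻¹ = a₁⁻¹ * ((a₁ * b * a₁⁻¹)⁻¹ * (a₂ * b * a₂⁻¹)) * a₁ := by
                rw [hc]; group
              rw [e]
              have := Subgroup.mem_center_iff.mp hz a₁
              have e2 : a₁⁻¹ * ((a₁ * b * a₁⁻¹)⁻¹ * (a₂ * b * a₂⁻¹)) * a₁
                  = (a₁ * b * a₁⁻¹)⁻¹ * (a₂ * b * a₂⁻¹) := by
                calc a₁⁻¹ * ((a₁ * b * a₁⁻¹)⁻¹ * (a₂ * b * a₂⁻¹)) * a₁
                    = a₁⁻¹ * (((a₁ * b * a₁⁻¹)⁻¹ * (a₂ * b * a₂⁻¹)) * a₁) := by group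
                  _ = a₁⁻¹ * (a₁ * ((a₁ * b * a₁⁻¹)⁻¹ * (a₂ * b * a₂⁻¹))) := by rw [this]
                  _ = (a₁ * b * a₁⁻¹)⁻¹ * (a₂ * b * a₂⁻¹) := by group
              rw [e2]
              exact hz
            -- c b c⁻¹ b⁻¹ central (conjugate by b)
            have hz3 : c * b * c⁻¹ * b⁻¹ ∈ center G := by
              have e : c * b * c⁻¹ * b⁻¹ = b * (b⁻¹ * c * b * c⁻¹) * b⁻¹ := by group
              rw [e]
              have := Subgroup.mem_center_iff.mp hz2 b
              have e2 : b * (b⁻¹ * c * b * c⁻¹) * b⁻¹ = b⁻¹ * c * b * c⁻¹ := by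
                calc b * (b⁻¹ * c * b * c⁻¹) * b⁻¹ = (b⁻¹ * c * b * c⁻¹) * b * b⁻¹ := by rw [this]
                  _ = b⁻¹ * c * b * c⁻¹ := by group
              rw [e2]
              exact hz2
            have hcZ : c ∈ center G := hkey c hcA b hb hbZ hz3
            apply Subtype.ext
            show (QuotientGroup.mk' (center G)) a₁ = (QuotientGroup.mk' (center G)) a₂
            exact QuotientGroup.eq.mpr hcZ
          have hfsurj : Function.Surjective f := Finite.injective_iff_surjective.mp hfinj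
          obtain ⟨⟨x, hx⟩, hfx⟩ := hfsurj ⟨(QuotientGroup.mk' (center G)) a, Subgroup.mem_map_of_mem _ ha⟩
          have hfx' : x * bq * x⁻¹ * bq⁻¹ = (QuotientGroup.mk' (center G)) a := congrArg Subtype.val hfx
          apply hno x
          rw [Subgroup.mem_smul_pointwise_iff_exists]
          refine ⟨bq, Subgroup.mem_map_of_mem _ hb, ?_⟩
          rw [MulAut.smul_def, MulAut.conj_apply, map_mul, ← hfx']
          show x * bq * x⁻¹ = x * bq * x⁻¹ * bq⁻¹ * bq
          group
    · intro hwq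
      obtain ⟨a, ha, rfl⟩ := Subgroup.mem_map.mp hwq
      by_cases haZ : a ∈ center G
      · left
        exact (QuotientGroup.eq_one_iff a).mpr haZ
      · right
        intro gq hgq
        obtain ⟨g, rfl⟩ := QuotientGroup.mk'_surjective (center G) gq
        rw [Subgroup.mem_smul_pointwise_iff_exists] at hgq
        obtain ⟨s, hs, hsw⟩ := hgq
        obtain ⟨b', hb', rfl⟩ := Subgroup.mem_map.mp hs
        have hsw' : (QuotientGroup.mk' (center G)) (g * b' * g⁻¹) = (QuotientGroup.mk' (center G)) a := by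
          simpa [MulAut.smul_def] using hsw
        have hz : (g * b' * g⁻¹)⁻¹ * a ∈ center G := by
          have : ((g * b' * g⁻¹ : G) : G ⧸ center G) = (a : G ⧸ center G) := hsw'
          exact QuotientGroup.eq.mp this
        -- g⁻¹ a g ∈ A ∩ B
        have h1 : g⁻¹ * a * g ∈ A := by
          have := hAn g⁻¹ a ha
          simpa using this
        have h2 : g⁻¹ * a * g ∈ B := by
          have e : g⁻¹ * a * g = b' * (g⁻¹ * ((g * b' * g⁻¹)⁻¹ * a) * g) := by group
          rw [e]
          have hzc := Subgroup.mem_center_iff.mp hz g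
          have e2 : g⁻¹ * ((g * b' * g⁻¹)⁻¹ * a) * g = (g * b' * g⁻¹)⁻¹ * a := by
            calc g⁻¹ * ((g * b' * g⁻¹)⁻¹ * a) * g = g⁻¹ * (g * ((g * b' * g⁻¹)⁻¹ * a)) := by
                  rw [hzc]; group
              _ = (g * b' * g⁻¹)⁻¹ * a := by group
          rw [e2]
          exact B.mul_mem hb' (hZB hz)
        have h3 : g⁻¹ * a * g ∈ center G := hint _ h1 h2
        apply haZ
        have hzc := Subgroup.mem_center_iff.mp h3 g
        have : a = g * (g⁻¹ * a * g) * g⁻¹ := by group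
        rw [this, hzc]
        have : g⁻¹ * a * g * g * g⁻¹ = g⁻¹ * a * g := by group
        rw [this]
        exact h3

end Cfsg.Agent.Helper20
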