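import Mathlib
import Cfsg.Agent.S3501
import Cfsg.Agent.S3680
import Cfsg.Agent.Helper20.MinNormal2
import Cfsg.Agent.Helper20.TwoModFour

set_option autoImplicit false

namespace Cfsg.Agent.Helper20.DerClasses

open MulAction

variable {G : Type*} [Group G] [Finite G] {Ω : Type*} [Fintype Ω] [MulAction G Ω]
  [FaithfulSMul G Ω]

/-- Three pairwise non-conjugate derangements contradict "exactly two classes". -/
theorem three_classes_false
    (hκ : Nat.card {c : ConjClasses G // ∃ g : G, ConjClasses.mk g = c ∧ ∀ ω : Ω, g • ω ≠ ω} = 2)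
    (y₁ y₂ y₃ : G) (h₁ : ∀ ω : Ω, y₁ • ω ≠ ω) (h₂ : ∀ ω : Ω, y₂ • ω ≠ ω)
    (h₃ : ∀ ω : Ω, y₃ • ω ≠ ω)
    (h12 : ¬ IsConj y₁ y₂) (h13 : ¬ IsConj y₁ y₃) (h23 : ¬ IsConj y₂ y₃) : False := by
  obtain ⟨x, y, hxy, huniv⟩ := Nat.card_eq_two_iff.mp hκ
  obtain ⟨s₁, hs₁⟩ : ∃ s : {c : ConjClasses G // ∃ g : G, ConjClasses.mk g = c ∧
      ∀ ω : Ω, g • ω ≠ ω}, s.1 = ConjClasses.mk y₁ := ⟨⟨ConjClasses.mk y₁, y₁, rfl, h₁⟩, rfl⟩
  obtain ⟨s₂, hs₂⟩ : ∃ s : {c : ConjClasses G // ∃ g : G, ConjClasses.mk g = c ∧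
      ∀ ω : Ω, g • ω ≠ ω}, s.1 = ConjClasses.mk y₂ := ⟨⟨ConjClasses.mk y₂, y₂, rfl, h₂⟩, rfl⟩
  obtain ⟨s₃, hs₃⟩ : ∃ s : {c : ConjClasses G // ∃ g : G, ConjClasses.mk g = c ∧
      ∀ ω : Ω, g • ω ≠ ω}, s.1 = ConjClasses.mk y₃ := ⟨⟨ConjClasses.mk y₃, y₃, rfl, h₃⟩, rfl⟩
  have m₁ : s₁ ∈ ({x, y} : Set _) := by rw [huniv]; trivial
  have m₂ : s₂ ∈ ({x, y} : Set _) := by rw [huniv]; trivial
  have m₃ : s₃ ∈ ({x, y} : Set _) := by rw [huniv]; trivial
  have e12 : s₁ ≠ s₂ := fun h => h12 (ConjClasses.mk_eq_mk_iff_isConj.mp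
    (by rw [← hs₁, ← hs₂, h]))
  have e13 : s₁ ≠ s₃ := fun h => h13 (ConjClasses.mk_eq_mk_iff_isConj.mp
    (by rw [← hs₁, ← hs₃, h]))
  have e23 : s₂ ≠ s₃ := fun h => h23 (ConjClasses.mk_eq_mk_iff_isConj.mp
    (by rw [← hs₂, ← hs₃, h]))
  rcases m₁ with h1 | h1 <;> rcases m₂ with h2 | h2 <;> rcases m₃ with h3 | h3
  · exact e12 (h1.trans h2.symm)
  · exact e12 (h1.trans h2.symm)
  · exact e13 (h1.trans h3.symm)
  · exact e23 (h2.trans h3.symm)
  · exact e23 (h2.trans h3.symm)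
  · exact e13 (h1.trans h3.symm)
  · exact e12 (h1.trans h2.symm)
  · exact e12 (h1.trans h2.symm)

omit [Finite G] in
/-- A "mixed" element `x b` (`x ∈ A`, `b ∈ B` both nontrivial) lies in no conjugate of `A`. -/
theorem mixed_not_conj (A B : Subgroup G) (hAB : A ⊓ B = ⊥)
    (hdich : ∀ g : G, (∀ a ∈ A, g * a * g⁻¹ ∈ A) ∨ (∀ a ∈ A, g * a * g⁻¹ ∈ B))
    (x b : G) (hx : x ∈ A) (hx1 : x ≠ 1) (hb : b ∈ B) (hb1 : b ≠ 1) (t : G) :
    t * (x * b) * t⁻¹ ∉ A := by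
  intro hz
  have e : t⁻¹ * (t * (x * b) * t⁻¹) * t⁻¹⁻¹ = x * b := by group
  rcases hdich t⁻¹ with h | h
  · have h1 := h _ hz
    rw [e] at h1
    have hbA : b ∈ A := by
      have := A.mul_mem (A.inv_mem hx) h1
      simpa using this
    have : b ∈ A ⊓ B := ⟨hbA, hb⟩
    rw [hAB, Subgroup.mem_bot] at this
    exact hb1 this
  · have h1 := h _ hz
    rw [e] at h1
    have hxB : x ∈ B := by
      have := B.mul_mem h1 (B.inv_mem hb)
      simpa using this
    have : x ∈ A ⊓ B := ⟨hx, hxB⟩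
    rw [hAB, Subgroup.mem_bot] at this
    exact hx1 this

/-- A nontrivial centre-free subgroup has elements of two distinct prime orders. -/
theorem two_primes (A : Subgroup G) (hA1 : A ≠ ⊥)
    (hcf : ∀ z ∈ A, (∀ a ∈ A, a * z = z * a) → z = 1) :
    ∃ p q : ℕ, p.Prime ∧ q.Prime ∧ p ≠ q ∧ (∃ x ∈ A, orderOf x = p) ∧
      (∃ x ∈ A, orderOf x = q) := by
  haveI : Nontrivial A := (Subgroup.nontrivial_iff_ne_bot A).mpr hA1
  have hcard : 1 < Nat.card A := Finite.one_lt_card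
  obtain ⟨p, hp, hpd⟩ := Nat.exists_prime_and_dvd (ne_of_gt hcard)
  have hex : ∃ q : ℕ, q.Prime ∧ q ∣ Nat.card A ∧ p ≠ q := by
    by_contra hno
    push Not at hno
    have hall : ∀ {d : ℕ}, d.Prime → d ∣ Nat.card A → d = p := by
      intro d hd hdd
      exact (hno d hd hdd).symm
    have hpow := Nat.eq_prime_pow_of_unique_prime_dvd (by omega) hall
    have hpg : IsPGroup p A := IsPGroup.of_card hpow
    haveI : Fact p.Prime := ⟨hp⟩
    haveI := hpg.center_nontrivial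
    obtain ⟨⟨z, hz⟩, hz1⟩ := exists_ne (1 : Subgroup.center A)
    have hz' : (z : G) = 1 := hcf z z.2 (fun a ha => by
      have := Subgroup.mem_center_iff.mp hz ⟨a, ha⟩
      exact congrArg Subtype.val this)
    apply hz1
    apply Subtype.ext
    apply Subtype.ext
    exact hz'
  obtain ⟨q, hq, hqd, hpq⟩ := hex
  haveI : Fact p.Prime := ⟨hp⟩
  haveI : Fact q.Prime := ⟨hq⟩
  obtain ⟨x, hx⟩ := exists_prime_orderOf_dvd_card' (G := A) p hpd
  obtain ⟨y, hy⟩ := exists_prime_orderOf_dvd_card' (G := A) q hqd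
  exact ⟨p, q, hp, hq, hpq, ⟨x, x.2, by rw [Subgroup.orderOf_coe]; exact hx⟩,
    ⟨y, y.2, by rw [Subgroup.orderOf_coe]; exact hy⟩⟩

omit [Fintype Ω] [FaithfulSMul G Ω] [Finite G] in
theorem pow_fix {g : G} {ω : Ω} (h : g • ω = ω) (k : ℕ) : g ^ k • ω = ω := by
  have : g ∈ stabilizer G ω := h
  exact (stabilizer G ω).pow_mem this k

omit [Fintype Ω] [FaithfulSMul G Ω] [Finite G] [MulAction G Ω] in
theorem not_isConj_of_orderOf {x y : G} (h : orderOf x ≠ orderOf y) : ¬ IsConj x y := by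
  intro hc
  obtain ⟨c, hc⟩ := isConj_iff.mp hc
  apply h
  rw [← hc]
  have := (MulAut.conj c).orderOf_eq x
  rw [MulAut.conj_apply] at this
  exact this.symm

/-- Non-simple minimal normal subgroup with trivial centraliser: three pairwise non-conjugate
derangements. -/
theorem nonsimple_three (N : Subgroup G) (hNtr : IsPretransitive N Ω)
    (A B : Subgroup G) (hA1 : A ≠ ⊥) (hB1 : B ≠ ⊥) (hAB : A ⊓ B = ⊥)
    (hcomm : ∀ a ∈ A, ∀ b ∈ B, a * b = b * a)
    (hdec : ∀ n ∈ N, ∃ a ∈ A, ∃ b ∈ B, n = a * b)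
    (hcf : ∀ z ∈ A, (∀ a ∈ A, a * z = z * a) → z = 1)
    (hAmin : ∀ M : Subgroup G, M ≠ ⊥ → M ≤ A → (∀ n ∈ N, ∀ m ∈ M, n * m * n⁻¹ ∈ M) → M = A)
    (hdich : ∀ g : G, (∀ a ∈ A, g * a * g⁻¹ ∈ A) ∨ (∀ a ∈ A, g * a * g⁻¹ ∈ B))
    (hexg : ∃ g : G, ∀ a ∈ A, g * a * g⁻¹ ∈ B) :
    ∃ y₁ y₂ y₃ : G, (∀ ω : Ω, y₁ • ω ≠ ω) ∧ (∀ ω : Ω, y₂ • ω ≠ ω) ∧ (∀ ω : Ω, y₃ • ω ≠ ω) ∧
      ¬ IsConj y₁ y₂ ∧ ¬ IsConj y₁ y₃ ∧ ¬ IsConj y₂ y₃ := by
  classical
  obtain ⟨p, q, hp, hq, hpq, ⟨xp, hxpA, hxp⟩, ⟨xq, hxqA, hxq⟩⟩ := two_primes A hA1 hcf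
  obtain ⟨g, hg⟩ := hexg
  have hxp1 : xp ≠ 1 := by
    intro h; rw [h, orderOf_one] at hxp; exact hp.one_lt.ne hxp
  have hxq1 : xq ≠ 1 := by
    intro h; rw [h, orderOf_one] at hxq; exact hq.one_lt.ne hxq
  -- a conjugate of `x ∈ A` equal to a mixed element is impossible
  have hmix : ∀ x ∈ A, ∀ x' ∈ A, x' ≠ 1 → ∀ b ∈ B, b ≠ 1 → ¬ IsConj x (x' * b) := by
    intro x hx x' hx' hx'1 b hb hb1 hc
    obtain ⟨c, hc⟩ := isConj_iff.mp hc
    apply mixed_not_conj A B hAB hdich x' b hx' hx'1 hb hb1 c⁻¹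
    rw [← hc]
    have e : c⁻¹ * (c * x * c⁻¹) * c⁻¹⁻¹ = x := by group
    rw [e]; exact hx
  by_cases hsr : ∀ ω : Ω, ∀ z ∈ A, z • ω = ω → z = 1
  · -- semiregular case
    haveI : Nontrivial B := (Subgroup.nontrivial_iff_ne_bot B).mpr hB1
    have hcardB : 1 < Nat.card B := Finite.one_lt_card
    obtain ⟨r, hr, hrd⟩ := Nat.exists_prime_and_dvd (ne_of_gt hcardB)
    haveI : Fact r.Prime := ⟨hr⟩
    obtain ⟨b0, hb0⟩ := exists_prime_orderOf_dvd_card' (G := B) r hrd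
    obtain ⟨b, hbB, hbr⟩ : ∃ b ∈ B, orderOf b = r :=
      ⟨b0, b0.2, by rw [Subgroup.orderOf_coe]; exact hb0⟩
    have hb1 : b ≠ 1 := by
      intro h; rw [h, orderOf_one] at hbr; exact hr.one_lt.ne hbr
    obtain ⟨s, x, hs, hsr', hxA, hxs⟩ : ∃ (s : ℕ) (x : G), s.Prime ∧ s ≠ r ∧ x ∈ A ∧
        orderOf x = s := by
      by_cases h : p = r
      · exact ⟨q, xq, hq, fun h' => hpq (h.trans h'.symm), hxqA, hxq⟩
      · exact ⟨p, xp, hp, h, hxpA, hxp⟩
    have hx1 : x ≠ 1 := by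
      intro h; rw [h, orderOf_one] at hxs; exact hs.one_lt.ne hxs
    have hxr : x ^ r ≠ 1 := by
      intro h
      have hd := orderOf_dvd_of_pow_eq_one h
      rw [hxs] at hd
      exact hsr' ((Nat.prime_dvd_prime_iff_eq hs hr).mp hd)
    have hpow : (x * b) ^ r = x ^ r := by
      have hc : Commute x b := hcomm x hxA b hbB
      rw [hc.mul_pow, ← hbr, pow_orderOf_eq_one, mul_one]
    refine ⟨xp, xq, x * b, ?_, ?_, ?_, ?_, ?_, ?_⟩
    · intro ω hω; exact hxp1 (hsr ω xp hxpA hω)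
    · intro ω hω; exact hxq1 (hsr ω xq hxqA hω)
    · intro ω hω
      have h1 := pow_fix hω r
      rw [hpow] at h1
      exact hxr (hsr ω _ (A.pow_mem hxA r) h1)
    · apply not_isConj_of_orderOf
      rw [hxp, hxq]; exact hpq
    · exact hmix xp hxpA x hxA hx1 b hbB hb1
    · exact hmix xq hxqA x hxA hx1 b hbB hb1
  · -- non-semiregular case
    push Not at hsr
    obtain ⟨ω₀, z₀, hz₀A, hz₀ω, hz₀1⟩ := hsr
    obtain ⟨A₀, hA₀⟩ : ∃ A₀ : Subgroup G, A₀ = A ⊓ stabilizer G ω₀ := ⟨_, rfl⟩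
    have hA₀mem : ∀ z, z ∈ A₀ ↔ z ∈ A ∧ z • ω₀ = ω₀ := by
      intro z; rw [hA₀]; exact Iff.rfl
    have hA₀1 : A₀ ≠ ⊥ := by
      intro h
      have : z₀ ∈ A₀ := (hA₀mem z₀).mpr ⟨hz₀A, hz₀ω⟩
      rw [h, Subgroup.mem_bot] at this
      exact hz₀1 this
    -- A does not fix ω₀
    have hAnf : ∃ z ∈ A, z • ω₀ ≠ ω₀ := by
      by_contra hno
      push Not at hno
      apply hA1
      rw [Subgroup.eq_bot_iff_forall]
      intro z hz
      apply S3680.eq_one_of_fixes_all (Ω := Ω)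
      intro ω
      obtain ⟨n, hn⟩ := exists_smul_eq N ω₀ ω
      obtain ⟨c, hc, d, hd, hcd⟩ := hdec n n.2
      have hω : ω = (c * d) • ω₀ := by rw [← hn, ← hcd]; rfl
      have h1 : c⁻¹ * z * c ∈ A := A.mul_mem (A.mul_mem (A.inv_mem hc) hz) hc
      have h2 := hno _ h1
      have e : z * (c * d) = c * d * (c⁻¹ * z * c) := by
        have := hcomm _ h1 d hd
        calc z * (c * d) = c * ((c⁻¹ * z * c) * d) := by group
          _ = c * (d * (c⁻¹ * z * c)) := by rw [this]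
          _ = c * d * (c⁻¹ * z * c) := by group
      rw [hω, ← mul_smul, e, mul_smul, h2]
    have hnorm : ¬ A ≤ Subgroup.normalizer (A₀ : Set G) := by
      intro hle
      have hA₀A : A₀ = A := by
        apply hAmin A₀ hA₀1 (fun z hz => ((hA₀mem z).mp hz).1)
        intro n hn m hm
        obtain ⟨c, hc, d, hd, hcd⟩ := hdec n hn
        have hmA := ((hA₀mem m).mp hm).1
        have e : n * m * n⁻¹ = c * m * c⁻¹ := by
          rw [hcd]
          have := hcomm m hmA d hd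
          calc c * d * m * (c * d)⁻¹ = c * (d * m) * d⁻¹ * c⁻¹ := by group
            _ = c * (m * d) * d⁻¹ * c⁻¹ := by rw [this]
            _ = c * m * c⁻¹ := by group
        rw [e]
        exact (Subgroup.mem_normalizer_iff.mp (hle hc) m).mp hm
      obtain ⟨z, hz, hzω⟩ := hAnf
      rw [← hA₀A] at hz
      exact hzω ((hA₀mem z).mp hz).2
    obtain ⟨a, haA, ha⟩ : ∃ a ∈ A, ∀ c ∈ A, c⁻¹ * a * c ∉ Subgroup.normalizer (A₀ : Set G) := by
      by_contra hno
      push Not at hno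
      apply hnorm
      have htop : (Subgroup.normalizer (A₀ : Set G)).subgroupOf A = ⊤ := by
        apply S3501.eq_top_of_conj_cover
        intro a'
        obtain ⟨c, hc, hc'⟩ := hno a' a'.2
        exact ⟨⟨c, hc⟩, by rw [Subgroup.mem_subgroupOf]; simpa using hc'⟩
      exact Subgroup.subgroupOf_eq_top.mp htop
    -- `a * b` is a derangement for all `b ∈ B`
    have hder : ∀ b ∈ B, ∀ ω : Ω, (a * b) • ω ≠ ω := by
      intro b hb ω hfix
      obtain ⟨n, hn⟩ := exists_smul_eq N ω₀ ω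
      obtain ⟨c, hc, d, hd, hcd⟩ := hdec n n.2
      have hω : ω = (c * d) • ω₀ := by rw [← hn, ← hcd]; rfl
      apply ha c hc
      apply TwoModFour.mem_normalizer_of_conj_mem
      intro z hz
      obtain ⟨hzA, hzω⟩ := (hA₀mem z).mp hz
      have htA : c⁻¹ * a * c ∈ A := A.mul_mem (A.mul_mem (A.inv_mem hc) haA) hc
      have huA : (c⁻¹ * a * c) * z * (c⁻¹ * a * c)⁻¹ ∈ A :=
        A.mul_mem (A.mul_mem htA hzA) (A.inv_mem htA)
      rw [hA₀mem]
      refine ⟨huA, ?_⟩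
      have h1 : (c⁻¹ * a * c) • ((b * d) • ω₀) = d • ω₀ := by
        have e : (c⁻¹ * a * c) * (b * d) = c⁻¹ * ((a * b) * (c * d)) := by
          have := hcomm c hc b hb
          calc (c⁻¹ * a * c) * (b * d) = c⁻¹ * a * (c * b) * d := by group
            _ = c⁻¹ * a * (b * c) * d := by rw [this]
            _ = c⁻¹ * ((a * b) * (c * d)) := by group
        rw [← mul_smul, e, mul_smul, mul_smul (a * b), ← hω, hfix, hω, ← mul_smul]
        congr 1
        group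
      have h2 : (c⁻¹ * a * c)⁻¹ • (d • ω₀) = (b * d) • ω₀ := by
        conv_lhs => rw [← h1]
        rw [inv_smul_smul]
      have h3 : z • ((b * d) • ω₀) = (b * d) • ω₀ := by
        rw [← mul_smul, hcomm z hzA (b * d) (B.mul_mem hb hd), mul_smul, hzω]
      have h4 : ((c⁻¹ * a * c) * z * (c⁻¹ * a * c)⁻¹) • (d • ω₀) = d • ω₀ := by
        rw [mul_smul, mul_smul, h2, h3, h1]
      apply smul_left_cancel d
      rw [← mul_smul, ← hcomm _ huA d hd, mul_smul]
      exact h4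
    have ha1 : a ≠ 1 := by
      intro h
      apply ha 1 A.one_mem
      rw [h]
      simp
    -- choose a prime r with a^r ≠ 1 and an element of order r in A
    obtain ⟨r, c₀, hr, hc₀A, hc₀r, har⟩ : ∃ (r : ℕ) (c₀ : G), r.Prime ∧ c₀ ∈ A ∧
        orderOf c₀ = r ∧ a ^ r ≠ 1 := by
      by_cases h : a ^ p = 1
      · refine ⟨q, xq, hq, hxqA, hxq, ?_⟩
        intro h'
        have hd1 := orderOf_dvd_of_pow_eq_one h
        have hd2 := orderOf_dvd_of_pow_eq_one h'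
        have hcop : Nat.Coprime p q := (Nat.coprime_primes hp hq).mpr hpq
        have := Nat.eq_one_of_dvd_coprimes hcop hd1 hd2
        exact ha1 (orderOf_eq_one_iff.mp this)
      · exact ⟨p, xp, hp, hxpA, hxp, h⟩
    have hc₀1 : c₀ ≠ 1 := by
      intro h; rw [h, orderOf_one] at hc₀r; exact hr.one_lt.ne hc₀r
    have hconj1 : ∀ x : G, x ≠ 1 → g * x * g⁻¹ ≠ 1 := by
      intro x hx h
      apply hx
      have : x = g⁻¹ * (g * x * g⁻¹) * g := by group
      rw [this, h]; group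
    have hcB : g * c₀ * g⁻¹ ∈ B := hg c₀ hc₀A
    have ha'B : g * a * g⁻¹ ∈ B := hg a haA
    have hcr : (g * c₀ * g⁻¹) ^ r = 1 := by
      rw [conj_pow, ← hc₀r, pow_orderOf_eq_one]; group
    refine ⟨a, a * (g * a * g⁻¹), a * (g * c₀ * g⁻¹), ?_, ?_, ?_, ?_, ?_, ?_⟩
    · have := hder 1 B.one_mem
      simpa using this
    · exact hder _ ha'B
    · exact hder _ hcB
    · exact hmix a haA a haA ha1 _ ha'B (hconj1 a ha1)
    · exact hmix a haA a haA ha1 _ hcB (hconj1 c₀ hc₀1)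
    · intro hc
      obtain ⟨t, ht⟩ := isConj_iff.mp hc
      have h1 : (a * (g * c₀ * g⁻¹)) ^ r = a ^ r := by
        have hcm : Commute a (g * c₀ * g⁻¹) := hcomm a haA _ hcB
        rw [hcm.mul_pow, hcr, mul_one]
      have h2 : (a * (g * a * g⁻¹)) ^ r = a ^ r * (g * a ^ r * g⁻¹) := by
        have hcm : Commute a (g * a * g⁻¹) := hcomm a haA _ ha'B
        rw [hcm.mul_pow, conj_pow]
      have h3 : t * (a * (g * a * g⁻¹)) ^ r * t⁻¹ = (a * (g * c₀ * g⁻¹)) ^ r := by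
        rw [← conj_pow, ht]
      rw [h1, h2] at h3
      apply mixed_not_conj A B hAB hdich (a ^ r) (g * a ^ r * g⁻¹) (A.pow_mem haA r) har
        (hg _ (A.pow_mem haA r)) (hconj1 _ har) t
      rw [h3]
      exact A.pow_mem haA r

/-- Noncommutative minimal normal subgroup with nontrivial centraliser: three pairwise
non-conjugate derangements. -/
theorem cent_three [IsPreprimitive G Ω] (N : Subgroup G) [hNn : N.Normal] (hN1 : N ≠ ⊥)
    (hNmin : ∀ M : Subgroup G, M.Normal → M ≤ N → M = ⊥ ∨ M = N)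
    (hNnc : ¬ IsMulCommutative N) (hC : Subgroup.centralizer (N : Set G) ≠ ⊥) :
    ∃ y₁ y₂ y₃ : G, (∀ ω : Ω, y₁ • ω ≠ ω) ∧ (∀ ω : Ω, y₂ • ω ≠ ω) ∧ (∀ ω : Ω, y₃ • ω ≠ ω) ∧
      ¬ IsConj y₁ y₂ ∧ ¬ IsConj y₁ y₃ ∧ ¬ IsConj y₂ y₃ := by
  classical
  haveI hCn : (Subgroup.centralizer (N : Set G)).Normal := Subgroup.normal_centralizer
  have hCtr : IsPretransitive (Subgroup.centralizer (N : Set G)) Ω :=
    S3680.trans_of_normal _ hC
  have hNtr : IsPretransitive N Ω := S3680.trans_of_normal _ hN1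
  have hNsr : ∀ x ∈ N, ∀ ω : Ω, x • ω = ω → x = 1 := by
    intro x hx ω hω
    apply S3680.eq_one_of_commute_of_fix _ hCtr _ hω
    intro v hv
    exact Subgroup.mem_centralizer_iff.mp hv x hx
  have hCsr : ∀ x ∈ Subgroup.centralizer (N : Set G), ∀ ω : Ω, x • ω = ω → x = 1 := by
    intro x hx ω hω
    apply S3680.eq_one_of_commute_of_fix _ hNtr _ hω
    intro v hv
    exact (Subgroup.mem_centralizer_iff.mp hx v hv).symm
  have hNC : N ⊓ Subgroup.centralizer (N : Set G) = ⊥ := by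
    have hinf : (N ⊓ Subgroup.centralizer (N : Set G)).Normal := inferInstance
    have hle1 : N ⊓ Subgroup.centralizer (N : Set G) ≤ N := inf_le_left
    have hle2 : N ⊓ Subgroup.centralizer (N : Set G) ≤ Subgroup.centralizer (N : Set G) :=
      inf_le_right
    rcases hNmin (N ⊓ Subgroup.centralizer (N : Set G)) hinf hle1 with h | h
    · exact h
    · exfalso
      apply hNnc
      have hle : N ≤ Subgroup.centralizer (N : Set G) := fun x hx => hle2 (by rw [h]; exact hx)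
      refine ⟨⟨fun a b => ?_⟩⟩
      apply Subtype.ext
      exact (Subgroup.mem_centralizer_iff.mp (hle b.2) a a.2)
  have hcf : ∀ z ∈ N, (∀ a ∈ N, a * z = z * a) → z = 1 := by
    intro z hz hza
    have : z ∈ N ⊓ Subgroup.centralizer (N : Set G) :=
      ⟨hz, Subgroup.mem_centralizer_iff.mpr hza⟩
    rw [hNC, Subgroup.mem_bot] at this
    exact this
  obtain ⟨p, q, hp, hq, hpq, ⟨xp, hxpA, hxp⟩, ⟨xq, hxqA, hxq⟩⟩ := two_primes N hN1 hcf
  have hxp1 : xp ≠ 1 := by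
    intro h; rw [h, orderOf_one] at hxp; exact hp.one_lt.ne hxp
  have hxq1 : xq ≠ 1 := by
    intro h; rw [h, orderOf_one] at hxq; exact hq.one_lt.ne hxq
  obtain ⟨c, hcC, hc1⟩ : ∃ c ∈ Subgroup.centralizer (N : Set G), c ≠ 1 := by
    by_contra h
    push Not at h
    exact hC ((Subgroup.eq_bot_iff_forall _).mpr h)
  have hnc : ∀ x ∈ N, ¬ IsConj x c := by
    intro x hx hcj
    obtain ⟨t, ht⟩ := isConj_iff.mp hcj
    have : c ∈ N ⊓ Subgroup.centralizer (N : Set G) :=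
      ⟨by rw [← ht]; exact hNn.conj_mem x hx t, hcC⟩
    rw [hNC, Subgroup.mem_bot] at this
    exact hc1 this
  refine ⟨xp, xq, c, ?_, ?_, ?_, ?_, ?_, ?_⟩
  · intro ω hω; exact hxp1 (hNsr xp hxpA ω hω)
  · intro ω hω; exact hxq1 (hNsr xq hxqA ω hω)
  · intro ω hω; exact hc1 (hCsr c hcC ω hω)
  · apply not_isConj_of_orderOf
    rw [hxp, hxq]; exact hpq
  · exact hnc xp hxpA
  · exact hnc xq hxqA

/-- The affine case: a transitive commutative normal subgroup. -/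
theorem affine_case
    (hκ : Nat.card {c : ConjClasses G // ∃ g : G, ConjClasses.mk g = c ∧ ∀ ω : Ω, g • ω ≠ ω} = 2)
    (α : Ω) (hΩ : 2 ≤ Fintype.card Ω) (N : Subgroup G) [hNn : N.Normal]
    (hNtr : IsPretransitive N Ω) (hNc : ∀ x ∈ N, ∀ y ∈ N, x * y = y * x) :
    ((∀ g : G, g ≠ 1 → Nat.card (fixedBy Ω g) ≤ 1) ∧ ¬ 2 ∣ Fintype.card Ω ∧
        2 * Nat.card (stabilizer G α) = Fintype.card Ω - 1) ∨
    (IsMultiplyPretransitive G Ω 2 ∧ ∃ g : G, g ≠ 1 ∧ 2 ≤ Nat.card (fixedBy Ω g)) := by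
  classical
  have hreg : ∀ x ∈ N, ∀ ω : Ω, x • ω = ω → x = 1 := by
    intro x hx ω hω
    apply S3680.eq_one_of_commute_of_fix N hNtr _ hω
    intro v hv
    exact hNc x hx v hv
  have hNα : ∀ ω : Ω, ∃ u ∈ N, u • α = ω := by
    intro ω
    obtain ⟨n, hn⟩ := exists_smul_eq N α ω
    exact ⟨n, n.2, hn⟩
  have hcardN : Nat.card N = Fintype.card Ω := by
    rw [← Nat.card_eq_fintype_card]
    apply Nat.card_eq_of_bijective (fun n : N => (n : G) • α)
    constructor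
    · intro n₁ n₂ h
      have h0 : (n₁ : G) • α = (n₂ : G) • α := h
      have h' : ((n₂ : G)⁻¹ * n₁) • α = α := by
        rw [mul_smul, h0, inv_smul_smul]
      have h1 := hreg _ (N.mul_mem (N.inv_mem n₂.2) n₁.2) α h'
      apply Subtype.ext
      exact (inv_mul_eq_one.mp h1).symm
    · intro ω
      obtain ⟨u, hu, huω⟩ := hNα ω
      exact ⟨⟨u, hu⟩, huω⟩
  have hdecomp : ∀ g : G, ∃ u ∈ N, ∃ h ∈ stabilizer G α, g = u * h := by
    intro g
    obtain ⟨u, hu, huα⟩ := hNα (g • α)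
    refine ⟨u, hu, u⁻¹ * g, ?_, by group⟩
    show (u⁻¹ * g) • α = α
    rw [mul_smul, ← huα, inv_smul_smul]
  have hHN : ∀ h ∈ stabilizer G α, h ∈ N → h = 1 := fun h hh hN => hreg h hN α hh
  have hconjH : ∀ g : G, ∀ v ∈ N, ∃ h ∈ stabilizer G α, g * v * g⁻¹ = h * v * h⁻¹ := by
    intro g v hv
    obtain ⟨u, hu, h, hh, rfl⟩ := hdecomp g
    refine ⟨h, hh, ?_⟩
    have h1 : h * v * h⁻¹ ∈ N := hNn.conj_mem v hv h
    have := hNc u hu _ h1
    calc u * h * v * (u * h)⁻¹ = u * (h * v * h⁻¹) * u⁻¹ := by group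
      _ = (h * v * h⁻¹) * u * u⁻¹ := by rw [this]
      _ = h * v * h⁻¹ := by group
  obtain ⟨φ, hφ⟩ : ∃ φ : G → N → N, ∀ h (w : N),
      ((φ h w : N) : G) = w * h * (w : G)⁻¹ * h⁻¹ := by
    refine ⟨fun h w => ⟨w * h * (w : G)⁻¹ * h⁻¹, ?_⟩, fun h w => rfl⟩
    have h1 : h * (w : G)⁻¹ * h⁻¹ ∈ N := hNn.conj_mem _ (N.inv_mem w.2) h
    have := N.mul_mem w.2 h1
    have e : (w : G) * h * (w : G)⁻¹ * h⁻¹ = w * (h * (w : G)⁻¹ * h⁻¹) := by group
    rw [e]; exact this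
  have hA : ∀ h ∈ stabilizer G α, ∀ v ∈ N, (∀ w : N, (φ h w : G) ≠ v) →
      ∀ ω : Ω, (v * h) • ω ≠ ω := by
    intro h hh v hv hno ω hω
    obtain ⟨w, hw, rfl⟩ := hNα ω
    apply hno ⟨w, hw⟩
    rw [hφ]
    show w * h * w⁻¹ * h⁻¹ = v
    have hk : w⁻¹ * v * (h * w * h⁻¹) ∈ N :=
      N.mul_mem (N.mul_mem (N.inv_mem hw) hv) (hNn.conj_mem w hw h)
    have hhinv : h⁻¹ • α = α := (stabilizer G α).inv_mem hh
    have hkα : (w⁻¹ * v * (h * w * h⁻¹)) • α = α := by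
      have e : w⁻¹ * v * (h * w * h⁻¹) = w⁻¹ * ((v * h) * w) * h⁻¹ := by group
      rw [e, mul_smul, hhinv, mul_smul, mul_smul, hω, inv_smul_smul]
    have hk1 := hreg _ hk α hkα
    have e2 : w * h * w⁻¹ * h⁻¹ = w * (w⁻¹ * v * (h * w * h⁻¹))⁻¹ * w⁻¹ * v := by group
    rw [e2, hk1]; group
  have hB : ∀ h ∈ stabilizer G α, ∀ w : N,
      ((φ h w : G) * h) • ((w : G) • α) = (w : G) • α := by
    intro h hh w
    have hhα : h • α = α := hh
    rw [hφ, ← mul_smul]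
    have e : (w : G) * h * (w : G)⁻¹ * h⁻¹ * h * w = w * h := by group
    rw [e, mul_smul, hhα]
  have hC : ∀ h : G, (∀ w ∈ N, w * h = h * w → w = 1) → Function.Injective (φ h) := by
    intro h hcen w₁ w₂ hw
    have hw' : (w₁ : G) * h * (w₁ : G)⁻¹ * h⁻¹ = w₂ * h * (w₂ : G)⁻¹ * h⁻¹ := by
      have := congrArg Subtype.val hw
      rwa [hφ, hφ] at this
    have h1 : ((w₂ : G)⁻¹ * w₁) * h = h * ((w₂ : G)⁻¹ * w₁) := by
      have h0 : (w₁ : G) * h * (w₁ : G)⁻¹ = w₂ * h * (w₂ : G)⁻¹ := by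
        have := congrArg (· * h) hw'
        simpa using this
      calc ((w₂ : G)⁻¹ * w₁) * h = (w₂ : G)⁻¹ * (w₁ * h * (w₁ : G)⁻¹) * w₁ := by group
        _ = (w₂ : G)⁻¹ * (w₂ * h * (w₂ : G)⁻¹) * w₁ := by rw [h0]
        _ = h * ((w₂ : G)⁻¹ * w₁) := by group
    have h2 := hcen _ (N.mul_mem (N.inv_mem w₂.2) w₁.2) h1
    apply Subtype.ext
    exact (inv_mul_eq_one.mp h2).symm
  by_cases hall : ∀ g : G, (∀ ω : Ω, g • ω ≠ ω) → g ∈ N
  · left
    have hcent : ∀ h ∈ stabilizer G α, h ≠ 1 → ∀ w ∈ N, w * h = h * w → w = 1 := by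
      intro h hh h1
      by_contra hno
      push Not at hno
      obtain ⟨w₀, hw₀, hw₀c, hw₀1⟩ := hno
      have hninj : ¬ Function.Injective (φ h) := by
        intro hinj
        apply hw₀1
        have h2 : φ h ⟨w₀, hw₀⟩ = φ h 1 := by
          apply Subtype.ext
          rw [hφ, hφ]
          show w₀ * h * w₀⁻¹ * h⁻¹ = (1 : G) * h * (1 : G)⁻¹ * h⁻¹
          rw [hw₀c]; group
        have h3 := hinj h2
        exact congrArg Subtype.val h3
      have hnsurj : ¬ Function.Surjective (φ h) :=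
        fun hs => hninj (Finite.injective_iff_surjective.mpr hs)
      obtain ⟨v₀, hv₀⟩ : ∃ v₀ : N, ∀ w, φ h w ≠ v₀ := by
        by_contra hno
        push Not at hno
        exact hnsurj hno
      have hder := hA h hh v₀ v₀.2 (fun w hw => hv₀ w (Subtype.ext hw))
      have hmem := hall _ hder
      have hhN : h ∈ N := by
        have := N.mul_mem (N.inv_mem v₀.2) hmem
        simpa using this
      exact h1 (hHN h hh hhN)
    have hfix : ∀ g : G, g ≠ 1 → Nat.card (fixedBy Ω g) ≤ 1 := by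
      intro g hg1
      rw [Finite.card_le_one_iff_subsingleton]
      constructor
      rintro ⟨ω₁, h₁⟩ ⟨ω₂, h₂⟩
      apply Subtype.ext
      show ω₁ = ω₂
      obtain ⟨u, hu, rfl⟩ := hNα ω₁
      obtain ⟨w, hw, hwω⟩ := hNα (u⁻¹ • ω₂)
      have h₁' : g • (u • α) = u • α := h₁
      have h₂' : g • ω₂ = ω₂ := h₂
      have hh : u⁻¹ * g * u ∈ stabilizer G α := by
        show (u⁻¹ * g * u) • α = α
        rw [mul_smul, mul_smul, h₁', inv_smul_smul]
      have hh1 : u⁻¹ * g * u ≠ 1 := by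
        intro h
        apply hg1
        have : g = u * (u⁻¹ * g * u) * u⁻¹ := by group
        rw [this, h]; group
      have hfw : (u⁻¹ * g * u) • (w • α) = w • α := by
        rw [hwω, mul_smul, mul_smul, smul_inv_smul, h₂']
      have hk : w⁻¹ * ((u⁻¹ * g * u) * w * (u⁻¹ * g * u)⁻¹) ∈ N :=
        N.mul_mem (N.inv_mem hw) (hNn.conj_mem w hw _)
      have hkα : (w⁻¹ * ((u⁻¹ * g * u) * w * (u⁻¹ * g * u)⁻¹)) • α = α := by
        have hinv : (u⁻¹ * g * u)⁻¹ • α = α := (stabilizer G α).inv_mem hh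
        rw [mul_smul, mul_smul, hinv, mul_smul, hfw, inv_smul_smul]
      have hk1 := hreg _ hk α hkα
      have hcm : w * (u⁻¹ * g * u) = (u⁻¹ * g * u) * w := by
        have h5 : (u⁻¹ * g * u) * w * (u⁻¹ * g * u)⁻¹ = w := (inv_mul_eq_one.mp hk1).symm
        calc w * (u⁻¹ * g * u)
            = ((u⁻¹ * g * u) * w * (u⁻¹ * g * u)⁻¹) * (u⁻¹ * g * u) := by rw [h5]
          _ = (u⁻¹ * g * u) * w := by group
      have hw1 := hcent _ hh hh1 w hw hcm
      rw [hw1, one_smul] at hwω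
      rw [hwω, smul_inv_smul]
    refine ⟨hfix, ?_⟩
    obtain ⟨X, Y, hXY, huniv⟩ := Nat.card_eq_two_iff.mp hκ
    obtain ⟨x, hxX, hxder⟩ := X.2
    obtain ⟨y, hyY, hyder⟩ := Y.2
    have hxN := hall x hxder
    have hyN := hall y hyder
    have hx1 : x ≠ 1 := by rintro rfl; exact hxder α (one_smul _ _)
    have hy1 : y ≠ 1 := by rintro rfl; exact hyder α (one_smul _ _)
    have hxy : ¬ IsConj x y := by
      intro h
      apply hXY
      apply Subtype.ext
      rw [← hxX, ← hyY]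
      exact ConjClasses.mk_eq_mk_iff_isConj.mpr h
    have hinj : ∀ v ∈ N, v ≠ 1 →
        Function.Injective (fun h : stabilizer G α => (h : G) * v * (h : G)⁻¹) := by
      intro v hv hv1 h₁ h₂ he
      have he' : (h₁ : G) * v * (h₁ : G)⁻¹ = h₂ * v * (h₂ : G)⁻¹ := he
      by_contra hne
      have hh : (h₂ : G)⁻¹ * h₁ ∈ stabilizer G α :=
        (stabilizer G α).mul_mem ((stabilizer G α).inv_mem h₂.2) h₁.2
      have hh1 : (h₂ : G)⁻¹ * h₁ ≠ 1 := by
        intro h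
        apply hne
        apply Subtype.ext
        exact (inv_mul_eq_one.mp h).symm
      apply hv1
      apply hcent _ hh hh1 v hv
      calc v * ((h₂ : G)⁻¹ * h₁) = (h₂ : G)⁻¹ * (h₂ * v * (h₂ : G)⁻¹) * h₁ := by group
        _ = (h₂ : G)⁻¹ * (h₁ * v * (h₁ : G)⁻¹) * h₁ := by rw [he']
        _ = (h₂ : G)⁻¹ * h₁ * v := by group
    have hset : (N : Set G) \ {1} =
        Set.range (fun h : stabilizer G α => (h : G) * x * (h : G)⁻¹) ∪
        Set.range (fun h : stabilizer G α => (h : G) * y * (h : G)⁻¹) := by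
      ext v
      constructor
      · rintro ⟨hv, hv1⟩
        have hv1' : v ≠ 1 := hv1
        have hvder : ∀ ω : Ω, v • ω ≠ ω := fun ω hω => hv1' (hreg v hv ω hω)
        have hm : (⟨ConjClasses.mk v, v, rfl, hvder⟩ : {c : ConjClasses G //
            ∃ g : G, ConjClasses.mk g = c ∧ ∀ ω : Ω, g • ω ≠ ω}) ∈ ({X, Y} : Set _) := by
          rw [huniv]; trivial
        rcases hm with hm | hm
        · left
          have h6 : ConjClasses.mk x = ConjClasses.mk v := by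
            rw [hxX, ← hm]
          obtain ⟨c, hc⟩ := isConj_iff.mp (ConjClasses.mk_eq_mk_iff_isConj.mp h6)
          obtain ⟨h, hh, hh'⟩ := hconjH c x hxN
          exact ⟨⟨h, hh⟩, by rw [← hc, hh']⟩
        · right
          have h6 : ConjClasses.mk y = ConjClasses.mk v := by
            rw [hyY, ← hm]
          obtain ⟨c, hc⟩ := isConj_iff.mp (ConjClasses.mk_eq_mk_iff_isConj.mp h6)
          obtain ⟨h, hh, hh'⟩ := hconjH c y hyN
          exact ⟨⟨h, hh⟩, by rw [← hc, hh']⟩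
      · rintro (⟨h, rfl⟩ | ⟨h, rfl⟩)
        · refine ⟨hNn.conj_mem x hxN h, ?_⟩
          intro h1
          have h1' : (h : G) * x * (h : G)⁻¹ = 1 := h1
          apply hx1
          have : x = (h : G)⁻¹ * ((h : G) * x * (h : G)⁻¹) * h := by group
          rw [this, h1']; group
        · refine ⟨hNn.conj_mem y hyN h, ?_⟩
          intro h1
          have h1' : (h : G) * y * (h : G)⁻¹ = 1 := h1
          apply hy1
          have : y = (h : G)⁻¹ * ((h : G) * y * (h : G)⁻¹) * h := by group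
          rw [this, h1']; group
    have hdisj : Disjoint (Set.range (fun h : stabilizer G α => (h : G) * x * (h : G)⁻¹))
        (Set.range (fun h : stabilizer G α => (h : G) * y * (h : G)⁻¹)) := by
      rw [Set.disjoint_left]
      rintro _ ⟨h₁, rfl⟩ ⟨h₂, he⟩
      apply hxy
      rw [isConj_iff]
      refine ⟨(h₂ : G)⁻¹ * h₁, ?_⟩
      have he' : (h₂ : G) * y * (h₂ : G)⁻¹ = h₁ * x * (h₁ : G)⁻¹ := he
      calc (h₂ : G)⁻¹ * h₁ * x * ((h₂ : G)⁻¹ * h₁)⁻¹
          = (h₂ : G)⁻¹ * (h₁ * x * (h₁ : G)⁻¹) * h₂ := by group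
        _ = (h₂ : G)⁻¹ * (h₂ * y * (h₂ : G)⁻¹) * h₂ := by rw [he']
        _ = y := by group
    have hcount : Nat.card N - 1 = Nat.card (stabilizer G α) + Nat.card (stabilizer G α) := by
      have h1 : ((N : Set G) \ {1}).ncard = Nat.card N - 1 := by
        rw [Set.ncard_diff_singleton_of_mem N.one_mem]
        rfl
      rw [← h1, hset, Set.ncard_union_eq hdisj (Set.toFinite _) (Set.toFinite _)]
      rw [← Set.image_univ, ← Set.image_univ, Set.ncard_image_of_injective _ (hinj x hxN hx1),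
        Set.ncard_image_of_injective _ (hinj y hyN hy1), Set.ncard_univ]
    rw [hcardN] at hcount
    constructor
    · omega
    · omega
  · right
    push Not at hall
    obtain ⟨g₀, hg₀der, hg₀N⟩ := hall
    have hconjN : ∀ v ∈ N, v ≠ 1 → ∀ w ∈ N, w ≠ 1 → ∃ h ∈ stabilizer G α, h * v * h⁻¹ = w := by
      intro v hv hv1 w hw hw1
      have hvder : ∀ ω : Ω, v • ω ≠ ω := fun ω hω => hv1 (hreg v hv ω hω)
      have hwder : ∀ ω : Ω, w • ω ≠ ω := fun ω hω => hw1 (hreg w hw ω hω)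
      have hvw : IsConj v w := by
        by_contra hvw
        apply three_classes_false hκ v w g₀ hvder hwder hg₀der hvw
        · intro hc
          obtain ⟨c, hc⟩ := isConj_iff.mp hc
          apply hg₀N
          rw [← hc]
          exact hNn.conj_mem v hv c
        · intro hc
          obtain ⟨c, hc⟩ := isConj_iff.mp hc
          apply hg₀N
          rw [← hc]
          exact hNn.conj_mem w hw c
      obtain ⟨c, hc⟩ := isConj_iff.mp hvw
      obtain ⟨h, hh, hh'⟩ := hconjH c v hv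
      exact ⟨h, hh, by rw [← hh', hc]⟩
    have h2t : IsMultiplyPretransitive G Ω 2 := by
      rw [MulAction.is_two_pretransitive_iff]
      intro a b c d hab hcd
      obtain ⟨u₁, hu₁, hu₁a⟩ := hNα a
      obtain ⟨u₂, hu₂, hu₂c⟩ := hNα c
      obtain ⟨v, hv, hvb⟩ := hNα (u₁⁻¹ • b)
      obtain ⟨w, hw, hwd⟩ := hNα (u₂⁻¹ • d)
      have hv1 : v ≠ 1 := by
        rintro rfl
        rw [one_smul] at hvb
        apply hab
        rw [← hu₁a, hvb, smul_inv_smul]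
      have hw1 : w ≠ 1 := by
        rintro rfl
        rw [one_smul] at hwd
        apply hcd
        rw [← hu₂c, hwd, smul_inv_smul]
      obtain ⟨h, hh, hvw⟩ := hconjN v hv hv1 w hw hw1
      have hhα : h • α = α := hh
      have hhinv : h⁻¹ • α = α := (stabilizer G α).inv_mem hh
      refine ⟨u₂ * h * u₁⁻¹, ?_, ?_⟩
      · rw [mul_smul, mul_smul, ← hu₁a, inv_smul_smul, hhα, hu₂c]
      · have h7 : h • v • α = w • α := by
          rw [← hvw, mul_smul, mul_smul, hhinv]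
        rw [mul_smul, mul_smul, ← hvb, h7, hwd, smul_inv_smul]
    refine ⟨h2t, ?_⟩
    by_contra hno
    push Not at hno
    obtain ⟨v, hv, h, hh, hg₀⟩ := hdecomp g₀
    have hh1 : h ≠ 1 := by
      rintro rfl
      apply hg₀N
      rw [hg₀, mul_one]
      exact hv
    have hcen : ∀ w ∈ N, w * h = h * w → w = 1 := by
      intro w hw hwc
      by_contra hw1
      have hlt := hno h hh1
      have hα : α ∈ fixedBy Ω h := hh
      have hwα : w • α ∈ fixedBy Ω h := by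
        show h • w • α = w • α
        rw [← mul_smul, ← hwc, mul_smul, (hh : h • α = α)]
      have hne : w • α ≠ α := fun h' => hw1 (hreg w hw α h')
      haveI : Nontrivial (fixedBy Ω h) :=
        ⟨⟨⟨α, hα⟩, ⟨w • α, hwα⟩, fun h' => hne (congrArg Subtype.val h').symm⟩⟩
      have : 1 < Nat.card (fixedBy Ω h) := Finite.one_lt_card
      omega
    have hinj := hC h hcen
    have hsurj := Finite.injective_iff_surjective.mp hinj
    obtain ⟨w, hw⟩ := hsurj ⟨v, hv⟩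
    have h8 := hB h hh w
    rw [hw] at h8
    exact hg₀der _ (by rw [hg₀]; exact h8)

end Cfsg.Agent.Helper20.DerClasses
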