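import Mathlib
import Cfsg.Agent.S3680
import Cfsg.Agent.Helper20.TwoModFour

set_option autoImplicit false

namespace Cfsg.Agent.Helper20.ExtPrim

open MulAction

variable {G : Type*} [Group G] [Finite G] {Ω : Type*} [Fintype Ω] [MulAction G Ω]
  [FaithfulSMul G Ω]

omit [Finite G] [Fintype Ω] [FaithfulSMul G Ω] in
theorem smul_mem_orbit_sub (H : Subgroup G) {l x : Ω} {h : G} (hh : h ∈ H)
    (hx : x ∈ orbit H l) : h • x ∈ orbit H l := by
  obtain ⟨k, rfl⟩ := hx
  refine ⟨⟨h, hh⟩ * k, ?_⟩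
  show ((⟨h, hh⟩ : H) * k) • l = h • (k • l)
  rw [mul_smul]; rfl

omit [Finite G] [Fintype Ω] [FaithfulSMul G Ω] in
/-- A normal subgroup of `G_α` is trivial or transitive on each `G_α`-orbit on which `G_α` is
primitive. -/
theorem normal_dichotomy (α : Ω)
    (hepα : ∀ ω : Ω, IsPreprimitive (stabilizer G α) (orbit (stabilizer G α) ω))
    (K : Subgroup G) (hKH : K ≤ stabilizer G α)
    (hKn : stabilizer G α ≤ Subgroup.normalizer (K : Set G)) (ω : Ω) :
    (∀ ω' ∈ orbit (stabilizer G α) ω, ∀ k ∈ K, k • ω' = ω') ∨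
    (∀ ω' ∈ orbit (stabilizer G α) ω, ∃ k ∈ K, k • ω = ω') := by
  haveI := hepα ω
  haveI : (K.subgroupOf (stabilizer G α)).Normal :=
    Subgroup.normal_subgroupOf_of_le_normalizer hKn
  by_cases hfix : fixedPoints (K.subgroupOf (stabilizer G α))
      (orbit (stabilizer G α) ω) = Set.univ
  · left
    intro ω' hω' k hk
    have h0 : (⟨ω', hω'⟩ : orbit (stabilizer G α) ω) ∈
        fixedPoints (K.subgroupOf (stabilizer G α)) (orbit (stabilizer G α) ω) := by
      rw [hfix]; trivial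
    have h1 := h0 ⟨⟨k, hKH hk⟩, by rw [Subgroup.mem_subgroupOf]; exact hk⟩
    exact congrArg Subtype.val h1
  · right
    have htr := IsQuasiPreprimitive.isPretransitive_of_normal hfix
    intro ω' hω'
    obtain ⟨k, hk⟩ := htr.exists_smul_eq ⟨ω, mem_orbit_self ω⟩ ⟨ω', hω'⟩
    exact ⟨((k : stabilizer G α) : G), Subgroup.mem_subgroupOf.mp k.2, congrArg Subtype.val hk⟩

/-- In a faithful primitive group with nontrivial point stabilisers, `G_α` fixes only `α`. -/
theorem fix_unique (hprim : IsPreprimitive G Ω) (α ω : Ω)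
    (h : ∀ g ∈ stabilizer G α, g • ω = ω) (hH : stabilizer G α ≠ ⊥) : ω = α := by
  by_contra hne
  haveI := hprim
  haveI : Nontrivial Ω := ⟨⟨ω, α, hne⟩⟩
  have hco : IsCoatom (stabilizer G α) := (isCoatom_stabilizer_iff_preprimitive G α).mpr hprim
  obtain ⟨g, hg⟩ := exists_smul_eq G α ω
  have hle : stabilizer G α ≤ stabilizer G ω := fun x hx => h x hx
  have hcard : Nat.card (stabilizer G ω) = Nat.card (stabilizer G α) := by
    rw [← hg, stabilizer_smul_eq_stabilizer_map_conj]
    exact Subgroup.card_map_of_injective (MulAut.conj g).injective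
  have heq : stabilizer G α = stabilizer G ω := Subgroup.eq_of_le_of_card_ge hle hcard.le
  have hgn : g ∈ Subgroup.normalizer (stabilizer G α : Set G) := by
    apply TwoModFour.mem_normalizer_of_conj_mem
    intro t ht
    rw [heq]
    show (g * t * g⁻¹) • ω = ω
    rw [← hg, mul_smul, mul_smul, inv_smul_smul, (ht : t • α = α)]
  have hgH : g ∉ stabilizer G α := by
    intro hgH
    apply hne
    rw [← hg]; exact hgH
  have hnorm : Subgroup.normalizer (stabilizer G α : Set G) = ⊤ := by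
    rcases hco.le_iff.mp (Subgroup.le_normalizer (H := stabilizer G α)) with h1 | h1
    · exact h1
    · exact absurd (h1 ▸ hgn) hgH
  apply hH
  rw [Subgroup.eq_bot_iff_forall]
  intro x hx
  apply S3680.eq_one_of_fixes_all (Ω := Ω)
  intro y
  obtain ⟨t, ht⟩ := exists_smul_eq G α y
  have ht' : t⁻¹ ∈ Subgroup.normalizer (stabilizer G α : Set G) := by rw [hnorm]; trivial
  have h2 := (Subgroup.mem_normalizer_iff.mp ht' x).mp hx
  have h3 : (t⁻¹ * x * t⁻¹⁻¹) • α = α := h2
  rw [← ht]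
  have e : x • t • α = t • ((t⁻¹ * x * t⁻¹⁻¹) • α) := by simp [mul_smul]
  rw [e, h3]

/-- **Generalised Manning lemma.** In a primitive group whose point stabiliser `H = G_α` is
primitive on each of its orbits, a nontrivial normal subgroup `K` of `H` fixes no point other
than `α`. -/
theorem fix_eq (hprim : IsPreprimitive G Ω) (α : Ω)
    (hepα : ∀ ω : Ω, IsPreprimitive (stabilizer G α) (orbit (stabilizer G α) ω))
    (K : Subgroup G) (hKH : K ≤ stabilizer G α)
    (hKn : stabilizer G α ≤ Subgroup.normalizer (K : Set G)) (hK1 : K ≠ ⊥)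
    (ω₁ : Ω) (hω₁ : ∀ k ∈ K, k • ω₁ = ω₁) : ω₁ = α := by
  classical
  by_contra hne
  haveI := hprim
  haveI : Nontrivial Ω := ⟨⟨ω₁, α, hne⟩⟩
  have hco : IsCoatom (stabilizer G α) := (isCoatom_stabilizer_iff_preprimitive G α).mpr hprim
  have hKconj : ∀ h ∈ stabilizer G α, ∀ k ∈ K, h * k * h⁻¹ ∈ K := by
    intro h hh k hk
    exact (Subgroup.mem_normalizer_iff.mp (hKn hh) k).mp hk
  have hFinv : ∀ h ∈ stabilizer G α, ∀ x : Ω, (∀ k ∈ K, k • x = x) →
      ∀ k ∈ K, k • (h • x) = h • x := by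
    intro h hh x hx k hk
    have h1 : h⁻¹ * k * h⁻¹⁻¹ ∈ K := hKconj h⁻¹ (Subgroup.inv_mem _ hh) k hk
    have h2 := hx _ h1
    calc k • (h • x) = h • ((h⁻¹ * k * h⁻¹⁻¹) • x) := by simp [mul_smul]
      _ = h • x := by rw [h2]
  have hEwd : ∀ (g g' : G) (y : Ω), g • α = g' • α → (∀ k ∈ K, (g * k * g⁻¹) • y = y) →
      ∀ k ∈ K, (g' * k * g'⁻¹) • y = y := by
    intro g g' y hgg hy k hk
    have hh : g⁻¹ * g' ∈ stabilizer G α := by
      show (g⁻¹ * g') • α = α
      rw [mul_smul, ← hgg, inv_smul_smul]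
    have h1 := hKconj _ hh k hk
    have h2 := hy _ h1
    have e : g * ((g⁻¹ * g') * k * (g⁻¹ * g')⁻¹) * g⁻¹ = g' * k * g'⁻¹ := by group
    rw [e] at h2; exact h2
  -- the relation `E x y`: the conjugate of `K` attached to `x` fixes `y`
  obtain ⟨E, hE⟩ : ∃ E : Ω → Ω → Prop, ∀ x y, E x y ↔
      ∃ g : G, g • α = x ∧ ∀ k ∈ K, (g * k * g⁻¹) • y = y := ⟨_, fun _ _ => Iff.rfl⟩
  have hE1 : ∀ y, E α y ↔ ∀ k ∈ K, k • y = y := by
    intro y
    rw [hE]
    constructor
    · rintro ⟨g, hg, hy⟩ k hk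
      have := hEwd g 1 y (by rw [hg, one_smul]) hy k hk
      simpa using this
    · intro hy
      exact ⟨1, one_smul _ _, fun k hk => by simpa using hy k hk⟩
  have hE2 : ∀ (t : G) (x y : Ω), E x y → E (t • x) (t • y) := by
    intro t x y hxy
    rw [hE] at hxy ⊢
    obtain ⟨g, hg, hy⟩ := hxy
    refine ⟨t * g, by rw [mul_smul, hg], fun k hk => ?_⟩
    have e : (t * g * k * (t * g)⁻¹) • (t • y) = t • ((g * k * g⁻¹) • y) := by
      simp [mul_smul]
    rw [e, hy k hk]
  -- step 2
  have hKtr : ∀ l : Ω, ¬ (∀ k ∈ K, k • l = l) →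
      ∀ ω' ∈ orbit (stabilizer G α) l, ∃ k ∈ K, k • l = ω' := by
    intro l hl
    rcases normal_dichotomy α hepα K hKH hKn l with h | h
    · exact absurd (h l (mem_orbit_self l)) hl
    · exact h
  have hsub : ∀ ω : Ω, (∀ k ∈ K, k • ω = ω) → ∀ l : Ω, ¬ (∀ k ∈ K, k • l = l) →
      orbit (stabilizer G α) l ⊆ orbit (stabilizer G ω) l := by
    intro ω hω l hl x hx
    obtain ⟨k, hk, hkx⟩ := hKtr l hl x hx
    exact ⟨⟨k, hω k hk⟩, hkx⟩
  have hstar : ∀ ω : Ω, (∀ k ∈ K, k • ω = ω) → ω ≠ α → ∀ l : Ω, ¬ (∀ k ∈ K, k • l = l) →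
      (orbit (stabilizer G α) l).ncard < (orbit (stabilizer G ω) l).ncard := by
    intro ω hω hωα l hl
    apply Set.ncard_lt_ncard _ (Set.toFinite _)
    refine ⟨hsub ω hω l hl, fun hsup => ?_⟩
    have heq : orbit (stabilizer G ω) l = orbit (stabilizer G α) l :=
      Set.Subset.antisymm hsup (hsub ω hω l hl)
    let M : Subgroup G :=
      { carrier := {g | ∀ x ∈ orbit (stabilizer G α) l,
          g • x ∈ orbit (stabilizer G α) l ∧ g⁻¹ • x ∈ orbit (stabilizer G α) l}
        mul_mem' := by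
          intro a b ha hb x hx
          refine ⟨?_, ?_⟩
          · rw [mul_smul]; exact (ha _ (hb x hx).1).1
          · rw [mul_inv_rev, mul_smul]; exact (hb _ (ha x hx).2).2
        one_mem' := by
          intro x hx
          simp [hx]
        inv_mem' := by
          intro a ha x hx
          refine ⟨(ha x hx).2, ?_⟩
          rw [inv_inv]; exact (ha x hx).1 }
    have hM : ∀ g, g ∈ M ↔ ∀ x ∈ orbit (stabilizer G α) l,
        g • x ∈ orbit (stabilizer G α) l ∧ g⁻¹ • x ∈ orbit (stabilizer G α) l := fun g => Iff.rfl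
    have hHM : stabilizer G α ≤ M := by
      intro h hh
      rw [hM]
      intro x hx
      exact ⟨smul_mem_orbit_sub _ hh hx, smul_mem_orbit_sub _ (Subgroup.inv_mem _ hh) hx⟩
    have hωM : stabilizer G ω ≤ M := by
      intro h hh
      rw [hM]
      intro x hx
      rw [← heq] at hx ⊢
      exact ⟨smul_mem_orbit_sub _ hh hx, smul_mem_orbit_sub _ (Subgroup.inv_mem _ hh) hx⟩
    rcases hco.le_iff.mp hHM with h1 | h1
    · obtain ⟨g, hg⟩ := exists_smul_eq G l α
      have hgM : g ∈ M := by rw [h1]; trivial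
      have h2 := ((hM g).mp hgM l (mem_orbit_self l)).1
      rw [hg] at h2
      obtain ⟨⟨h, hhmem⟩, hh⟩ := h2
      have hh' : h • l = α := hh
      apply hl
      intro k hk
      have h3 : h⁻¹ • α = α := (stabilizer G α).inv_mem hhmem
      have e : l = α := by
        rw [← h3, eq_inv_smul_iff]; exact hh'
      rw [e]
      exact hKH hk
    · apply hωα
      apply fix_unique hprim α ω
      · intro g hg
        have h4 : stabilizer G ω ≤ stabilizer G α := by rw [← h1]; exact hωM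
        have hcard : Nat.card (stabilizer G ω) = Nat.card (stabilizer G α) := by
          obtain ⟨t, ht⟩ := exists_smul_eq G α ω
          rw [← ht, stabilizer_smul_eq_stabilizer_map_conj]
          exact Subgroup.card_map_of_injective (MulAut.conj t).injective
        have heq2 : stabilizer G ω = stabilizer G α :=
          Subgroup.eq_of_le_of_card_ge h4 hcard.ge
        have : g ∈ stabilizer G ω := by rw [heq2]; exact hg
        exact this
      · intro hbot
        apply hK1
        rw [eq_bot_iff, ← hbot]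
        exact hKH
  -- step 3: a point `l₀` outside `F` with `H`-orbit of maximal size
  obtain ⟨k₀, hk₀, hk₀1⟩ : ∃ k ∈ K, k ≠ 1 := by
    by_contra h
    push Not at h
    exact hK1 ((Subgroup.eq_bot_iff_forall K).mpr h)
  obtain ⟨x₀, hx₀⟩ : ∃ x₀ : Ω, k₀ • x₀ ≠ x₀ := by
    by_contra h
    push Not at h
    exact hk₀1 (S3680.eq_one_of_fixes_all h)
  obtain ⟨l₀, hl₀, hl₀max⟩ := Set.exists_max_image {l : Ω | ¬ (∀ k ∈ K, k • l = l)}
    (fun l => (orbit (stabilizer G α) l).ncard) (Set.toFinite _)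
    ⟨x₀, fun h => hx₀ (h k₀ hk₀)⟩
  have hl₀' : ¬ (∀ k ∈ K, k • l₀ = l₀) := hl₀
  have hclaim3 : ∀ ω : Ω, (∀ k ∈ K, k • ω = ω) → ω ≠ α → ∀ x ∈ orbit (stabilizer G α) l₀,
      ∀ g : G, g • α = ω → ∀ k ∈ K, (g * k * g⁻¹) • x = x := by
    intro ω hω hωα x hx g hg
    by_contra hno
    push Not at hno
    obtain ⟨k, hk, hkx⟩ := hno
    have hy : ¬ (∀ k ∈ K, k • (g⁻¹ • x) = g⁻¹ • x) := by
      intro hy
      apply hkx
      have := hy k hk
      calc (g * k * g⁻¹) • x = g • (k • (g⁻¹ • x)) := by simp [mul_smul]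
        _ = x := by rw [this, smul_inv_smul]
    have h1 : (orbit (stabilizer G α) (g⁻¹ • x)).ncard ≤ (orbit (stabilizer G α) l₀).ncard :=
      hl₀max _ hy
    have h2 : orbit (stabilizer G ω) x = (fun z => g • z) '' orbit (stabilizer G α) (g⁻¹ • x) := by
      ext z
      constructor
      · rintro ⟨t, rfl⟩
        refine ⟨g⁻¹ • ((t : G) • x), ?_, by
          show g • (g⁻¹ • ((t : G) • x)) = t • x
          rw [smul_inv_smul]; rfl⟩
        have ht : g⁻¹ * (t : G) * g ∈ stabilizer G α := by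
          show (g⁻¹ * (t : G) * g) • α = α
          rw [mul_smul, mul_smul, hg, (t.2 : (t : G) • ω = ω), ← hg, inv_smul_smul]
        refine ⟨⟨_, ht⟩, ?_⟩
        show (g⁻¹ * (t : G) * g) • (g⁻¹ • x) = g⁻¹ • ((t : G) • x)
        simp [mul_smul]
      · rintro ⟨w, ⟨h, rfl⟩, rfl⟩
        have ht : g * (h : G) * g⁻¹ ∈ stabilizer G ω := by
          show (g * (h : G) * g⁻¹) • ω = ω
          rw [← hg, mul_smul, mul_smul, inv_smul_smul, (h.2 : (h : G) • α = α)]
        refine ⟨⟨_, ht⟩, ?_⟩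
        show (g * (h : G) * g⁻¹) • x = g • ((h : G) • (g⁻¹ • x))
        simp [mul_smul]
    have h3 : (orbit (stabilizer G ω) x).ncard = (orbit (stabilizer G α) (g⁻¹ • x)).ncard := by
      rw [h2]
      exact Set.ncard_image_of_injective _ (MulAction.injective g)
    have h4 : orbit (stabilizer G ω) x = orbit (stabilizer G ω) l₀ :=
      orbit_eq_iff.mpr (hsub ω hω l₀ hl₀' hx)
    have h5 := hstar ω hω hωα l₀ hl₀'
    rw [← h4, h3] at h5
    omega
  -- step 4: the conjugates of `K` at points of `F \ {α}` lie in `H`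
  have hstep4 : ∀ ω : Ω, (∀ k ∈ K, k • ω = ω) → ω ≠ α → E ω α := by
    intro ω hω hωα
    obtain ⟨g₀, hg₀⟩ := exists_smul_eq G α ω
    obtain ⟨L, hL⟩ : ∃ L : Subgroup G, L = Subgroup.closure
        {z : G | ∃ g k, k ∈ K ∧ (∀ k' ∈ K, k' • (g • α) = g • α) ∧ g • α ≠ α ∧
          z = g * k * g⁻¹} := ⟨_, rfl⟩
    have hLgen : ∀ g k, k ∈ K → (∀ k' ∈ K, k' • (g • α) = g • α) → g • α ≠ α →
        g * k * g⁻¹ ∈ L := by
      intro g k hk h1 h2
      rw [hL]
      exact Subgroup.subset_closure ⟨g, k, hk, h1, h2, rfl⟩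
    have hLfix : ∀ z ∈ L, ∀ x ∈ orbit (stabilizer G α) l₀, z • x = x := by
      intro z hz
      rw [hL] at hz
      induction hz using Subgroup.closure_induction with
      | mem z hz =>
        obtain ⟨g, k, hk, h1, h2, rfl⟩ := hz
        intro x hx
        exact hclaim3 (g • α) h1 h2 x hx g rfl k hk
      | one => intro x _; exact one_smul _ _
      | mul a b _ _ ha hb =>
        intro x hx
        rw [mul_smul, hb x hx, ha x hx]
      | inv a _ ha =>
        intro x hx
        rw [inv_smul_eq_iff, ha x hx]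
    have hLconj : ∀ h ∈ stabilizer G α, ∀ z ∈ L, h * z * h⁻¹ ∈ L := by
      intro h hh z hz
      rw [hL] at hz
      induction hz using Subgroup.closure_induction with
      | mem z hz =>
        obtain ⟨g, k, hk, h1, h2, rfl⟩ := hz
        have e : h * (g * k * g⁻¹) * h⁻¹ = (h * g) * k * (h * g)⁻¹ := by group
        rw [e]
        apply hLgen _ _ hk
        · rw [mul_smul]
          exact hFinv h hh _ h1
        · rw [mul_smul]
          intro h3
          apply h2
          have h4 : h⁻¹ • α = α := (stabilizer G α).inv_mem hh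
          have h5 : g • α = h⁻¹ • α := by rw [eq_inv_smul_iff]; exact h3
          rw [h5, h4]
      | one => simp [L.one_mem]
      | mul a b _ _ ha hb =>
        have e : h * (a * b) * h⁻¹ = (h * a * h⁻¹) * (h * b * h⁻¹) := by group
        rw [e]; exact L.mul_mem ha hb
      | inv a _ ha =>
        have e : h * a⁻¹ * h⁻¹ = (h * a * h⁻¹)⁻¹ := by group
        rw [e]; exact L.inv_mem ha
    have hLH : L ≤ stabilizer G α := by
      by_contra hnot
      have hsup : stabilizer G α ⊔ L = ⊤ := by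
        rcases hco.le_iff.mp (le_sup_left : stabilizer G α ≤ stabilizer G α ⊔ L) with h1 | h1
        · exact h1
        · exfalso
          apply hnot
          rw [← h1]; exact le_sup_right
      have hnormL : Subgroup.normalizer (L : Set G) = ⊤ := by
        rw [eq_top_iff, ← hsup]
        apply sup_le
        · intro h hh
          exact TwoModFour.mem_normalizer_of_conj_mem (hLconj h hh)
        · exact Subgroup.le_normalizer
      haveI hLn : L.Normal := Subgroup.normalizer_eq_top_iff.mp hnormL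
      have hL1 : L ≠ ⊥ := by
        intro hbot
        have h1 : g₀ * k₀ * g₀⁻¹ ∈ L := hLgen g₀ k₀ hk₀ (by rw [hg₀]; exact hω)
          (by rw [hg₀]; exact hωα)
        rw [hbot, Subgroup.mem_bot] at h1
        apply hk₀1
        have e : k₀ = g₀⁻¹ * (g₀ * k₀ * g₀⁻¹) * g₀ := by group
        rw [e, h1]; group
      have hLtr : IsPretransitive L Ω := S3680.trans_of_normal L hL1
      obtain ⟨z, hz⟩ := exists_smul_eq L l₀ α
      have h2 := hLfix z z.2 l₀ (mem_orbit_self l₀)
      have h3 : (z : G) • l₀ = α := hz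
      rw [h2] at h3
      apply hl₀'
      intro k hk
      rw [h3]
      exact hKH hk
    rw [hE]
    refine ⟨g₀, hg₀, fun k hk => ?_⟩
    exact hLH (hLgen g₀ k hk (by rw [hg₀]; exact hω) (by rw [hg₀]; exact hωα))
  -- step 5: symmetry and neighbourhoods
  have hsymm : ∀ x y : Ω, E x y → y ≠ x → E y x := by
    intro x y hxy hyx
    obtain ⟨g, hg⟩ := exists_smul_eq G α x
    have h1 : E α (g⁻¹ • y) := by
      have := hE2 g⁻¹ x y hxy
      rwa [← hg, inv_smul_smul] at this
    have h2 : g⁻¹ • y ≠ α := by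
      intro h
      apply hyx
      rw [← hg, ← h, smul_inv_smul]
    have h3 := hstep4 _ ((hE1 _).mp h1) h2
    have h4 := hE2 g _ _ h3
    rwa [smul_inv_smul, hg] at h4
  obtain ⟨Nb, hNb⟩ : ∃ Nb : Ω → Set Ω, ∀ x y, y ∈ Nb x ↔ (y ≠ x ∧ E x y) :=
    ⟨fun x => {y | y ≠ x ∧ E x y}, fun _ _ => Iff.rfl⟩
  have hNbsmul : ∀ (t : G) (x : Ω), Nb (t • x) = (fun y => t • y) '' Nb x := by
    intro t x
    ext y
    rw [hNb]
    constructor
    · rintro ⟨h1, h2⟩
      refine ⟨t⁻¹ • y, ?_, by simp⟩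
      rw [hNb]
      refine ⟨fun h => h1 (by rw [← h, smul_inv_smul]), ?_⟩
      have := hE2 t⁻¹ _ _ h2
      rwa [inv_smul_smul] at this
    · rintro ⟨w, hw, rfl⟩
      rw [hNb] at hw
      exact ⟨fun h => hw.1 (MulAction.injective t h), hE2 t _ _ hw.2⟩
  have hNbcard : ∀ (t : G) (x : Ω), (Nb (t • x)).ncard = (Nb x).ncard := by
    intro t x
    rw [hNbsmul]
    exact Set.ncard_image_of_injective _ (MulAction.injective t)
  have hNbsub : Nb α ⊆ Nb l₀ := by
    intro ω hω
    rw [hNb] at hω ⊢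
    obtain ⟨hωα, hEω⟩ := hω
    have hωF := (hE1 ω).mp hEω
    have hne' : ω ≠ l₀ := by
      rintro rfl
      exact hl₀' hωF
    refine ⟨hne', ?_⟩
    apply hsymm _ _ _ hne'.symm
    obtain ⟨g, hg⟩ := exists_smul_eq G α ω
    rw [hE]
    exact ⟨g, hg, hclaim3 ω hωF hωα l₀ (mem_orbit_self l₀) g hg⟩
  obtain ⟨t₀, ht₀⟩ := exists_smul_eq G α l₀
  have hNbeq : Nb α = Nb l₀ := by
    apply Set.eq_of_subset_of_ncard_le hNbsub _ (Set.toFinite _)
    rw [← ht₀, hNbcard]
  -- step 6
  let M' : Subgroup G :=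
    { carrier := {g | Nb (g • α) = Nb α}
      mul_mem' := by
        intro a b ha hb
        show Nb ((a * b) • α) = Nb α
        have ha' : Nb (a • α) = Nb α := ha
        have hb' : Nb (b • α) = Nb α := hb
        rw [mul_smul, hNbsmul, hb', ← hNbsmul, ha']
      one_mem' := by
        show Nb ((1 : G) • α) = Nb α
        rw [one_smul]
      inv_mem' := by
        intro a ha
        show Nb (a⁻¹ • α) = Nb α
        have ha' : Nb (a • α) = Nb α := ha
        have h1 : (fun y => a • y) '' Nb (a⁻¹ • α) = (fun y => a • y) '' Nb α := by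
          rw [← hNbsmul, ← hNbsmul, smul_inv_smul, ha']
        exact (Set.image_injective.mpr (MulAction.injective a)) h1 }
  have hM' : ∀ g, g ∈ M' ↔ Nb (g • α) = Nb α := fun g => Iff.rfl
  have hHM' : stabilizer G α ≤ M' := by
    intro h hh
    rw [hM', (hh : h • α = α)]
  have ht₀M' : t₀ ∈ M' := by
    rw [hM', ht₀, hNbeq]
  have hM'top : M' = ⊤ := by
    rcases hco.le_iff.mp hHM' with h1 | h1
    · exact h1
    · exfalso
      have : t₀ ∈ stabilizer G α := by rw [← h1]; exact ht₀M'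
      apply hl₀'
      intro k hk
      rw [← ht₀, (this : t₀ • α = α)]
      exact hKH hk
  obtain ⟨g₁, hg₁⟩ := exists_smul_eq G α ω₁
  have hg₁M : g₁ ∈ M' := by rw [hM'top]; trivial
  have h6 : Nb ω₁ = Nb α := by
    have := (hM' g₁).mp hg₁M
    rwa [hg₁] at this
  have h7 : ω₁ ∈ Nb α := by
    rw [hNb]
    exact ⟨hne, (hE1 ω₁).mpr hω₁⟩
  rw [← h6, hNb] at h7
  exact h7.1 rfl

end Cfsg.Agent.Helper20.ExtPrim
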