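import Mathlib
import Cfsg.Agent.Helper20.ExtPrim

set_option autoImplicit false

namespace Cfsg.Agent.Helper20.ExtFit

open MulAction

variable {G : Type*} [Group G] [Finite G] {Ω : Type*} [Fintype Ω] [MulAction G Ω]
  [FaithfulSMul G Ω]

/-- Manning's theorem for a single point: `G_α` is faithful on each of its nontrivial orbits. -/
theorem manning (hprim : IsPreprimitive G Ω) (α : Ω)
    (hepα : ∀ ω : Ω, IsPreprimitive (stabilizer G α) (orbit (stabilizer G α) ω))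
    (ω : Ω) (hω : ω ≠ α) (h : G) (hh : h ∈ stabilizer G α)
    (hfix : ∀ x ∈ orbit (stabilizer G α) ω, h • x = x) : h = 1 := by
  classical
  let K : Subgroup G :=
    { carrier := {g | g ∈ stabilizer G α ∧
        ∀ x ∈ orbit (stabilizer G α) ω, g • x = x}
      mul_mem' := by
        rintro a b ⟨ha, ha'⟩ ⟨hb, hb'⟩
        refine ⟨Subgroup.mul_mem _ ha hb, fun x hx => ?_⟩
        rw [mul_smul, hb' x hx, ha' x hx]
      one_mem' := ⟨Subgroup.one_mem _, fun x _ => one_smul _ _⟩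
      inv_mem' := by
        rintro a ⟨ha, ha'⟩
        refine ⟨Subgroup.inv_mem _ ha, fun x hx => ?_⟩
        rw [inv_smul_eq_iff, ha' x hx] }
  have hKmem : ∀ g, g ∈ K ↔ g ∈ stabilizer G α ∧
      ∀ x ∈ orbit (stabilizer G α) ω, g • x = x := fun g => Iff.rfl
  have hKH : K ≤ stabilizer G α := fun g hg => ((hKmem g).mp hg).1
  have hKn : stabilizer G α ≤ Subgroup.normalizer (K : Set G) := by
    intro t ht
    apply TwoModFour.mem_normalizer_of_conj_mem
    intro k hk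
    rw [hKmem] at hk ⊢
    refine ⟨Subgroup.mul_mem _ (Subgroup.mul_mem _ ht hk.1) (Subgroup.inv_mem _ ht), fun x hx => ?_⟩
    have h1 : t⁻¹ • x ∈ orbit (stabilizer G α) ω :=
      ExtPrim.smul_mem_orbit_sub _ (Subgroup.inv_mem _ ht) hx
    rw [mul_smul, mul_smul, hk.2 _ h1, smul_inv_smul]
  have hK : K = ⊥ := by
    by_contra hK1
    apply hω
    apply ExtPrim.fix_eq hprim α hepα K hKH hKn hK1 ω
    intro k hk
    exact ((hKmem k).mp hk).2 ω (mem_orbit_self ω)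
  have hhK : h ∈ K := by
    rw [hKmem]
    exact ⟨hh, fun x hx => hfix x hx⟩
  rw [hK, Subgroup.mem_bot] at hhK
  exact hhK

/-- A nontrivial normal subgroup of `G_α` is transitive on each `G_α`-orbit other than `{α}`. -/
theorem normal_trans (hprim : IsPreprimitive G Ω) (α : Ω)
    (hepα : ∀ ω : Ω, IsPreprimitive (stabilizer G α) (orbit (stabilizer G α) ω))
    (K : Subgroup G) (hKH : K ≤ stabilizer G α)
    (hKn : stabilizer G α ≤ Subgroup.normalizer (K : Set G)) (hK1 : K ≠ ⊥)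
    (ω : Ω) (hω : ω ≠ α) : ∀ h ∈ stabilizer G α, ∃ k ∈ K, k • ω = h • ω := by
  intro h hh
  rcases ExtPrim.normal_dichotomy α hepα K hKH hKn ω with h1 | h1
  · exact absurd (ExtPrim.fix_eq hprim α hepα K hKH hKn hK1 ω (h1 ω (mem_orbit_self ω))) hω
  · exact h1 (h • ω) ⟨⟨h, hh⟩, rfl⟩

/-- An element of `G_α` centralising a nontrivial normal subgroup `K` of `G_α` and fixing a point
other than `α` is trivial. -/
theorem cent_fix (hprim : IsPreprimitive G Ω) (α : Ω)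
    (hepα : ∀ ω : Ω, IsPreprimitive (stabilizer G α) (orbit (stabilizer G α) ω))
    (K : Subgroup G) (hKH : K ≤ stabilizer G α)
    (hKn : stabilizer G α ≤ Subgroup.normalizer (K : Set G)) (hK1 : K ≠ ⊥)
    (ω : Ω) (hω : ω ≠ α) (c : G) (hc : c ∈ stabilizer G α)
    (hcK : ∀ k ∈ K, c * k = k * c) (hcω : c • ω = ω) : c = 1 := by
  apply manning hprim α hepα ω hω c hc
  rintro x ⟨h, rfl⟩
  obtain ⟨k, hk, hkω⟩ := normal_trans hprim α hepα K hKH hKn hK1 ω hω h h.2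
  show c • ((h : G) • ω) = (h : G) • ω
  rw [← hkω, ← mul_smul, hcK k hk, mul_smul, hcω]

/-- A nontrivial abelian normal subgroup of `G_α` is self-centralising in `G_α`. -/
theorem self_cent [Nontrivial Ω] (hprim : IsPreprimitive G Ω) (α : Ω)
    (hepα : ∀ ω : Ω, IsPreprimitive (stabilizer G α) (orbit (stabilizer G α) ω))
    (K : Subgroup G) (hKH : K ≤ stabilizer G α)
    (hKn : stabilizer G α ≤ Subgroup.normalizer (K : Set G)) (hK1 : K ≠ ⊥)
    (hKc : ∀ a ∈ K, ∀ b ∈ K, a * b = b * a)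
    (c : G) (hc : c ∈ stabilizer G α) (hcK : ∀ k ∈ K, c * k = k * c) : c ∈ K := by
  obtain ⟨ω, hω⟩ := exists_ne α
  obtain ⟨k, hk, hkω⟩ := normal_trans hprim α hepα K hKH hKn hK1 ω hω c hc
  have h1 : k⁻¹ * c = 1 := by
    apply cent_fix hprim α hepα K hKH hKn hK1 ω hω (k⁻¹ * c)
      (Subgroup.mul_mem _ (Subgroup.inv_mem _ (hKH hk)) hc)
    · intro k' hk'
      calc k⁻¹ * c * k' = k⁻¹ * (c * k') := by group
        _ = k⁻¹ * (k' * c) := by rw [hcK k' hk']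
        _ = (k⁻¹ * k') * c := by group
        _ = (k' * k⁻¹) * c := by rw [hKc _ (K.inv_mem hk) _ hk']
        _ = k' * (k⁻¹ * c) := by group
    · rw [mul_smul, ← hkω, inv_smul_smul]
  have : c = k := (inv_mul_eq_one.mp h1).symm
  rw [this]; exact hk

/-- A normal subgroup of `G_α` with nontrivial centre is abelian. -/
theorem comm_of_center [Nontrivial Ω] (hprim : IsPreprimitive G Ω) (α : Ω)
    (hepα : ∀ ω : Ω, IsPreprimitive (stabilizer G α) (orbit (stabilizer G α) ω))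
    (K : Subgroup G) (hKH : K ≤ stabilizer G α)
    (hKn : stabilizer G α ≤ Subgroup.normalizer (K : Set G))
    (hZ : ∃ z ∈ K, z ≠ 1 ∧ ∀ k ∈ K, k * z = z * k) : ∀ a ∈ K, ∀ b ∈ K, a * b = b * a := by
  obtain ⟨Z, hZdef⟩ : ∃ Z : Subgroup G, Z = K ⊓ Subgroup.centralizer (K : Set G) := ⟨_, rfl⟩
  have hZmem : ∀ z, z ∈ Z ↔ z ∈ K ∧ ∀ k ∈ K, k * z = z * k := by
    intro z; rw [hZdef, Subgroup.mem_inf, Subgroup.mem_centralizer_iff]; rfl
  have hZK : Z ≤ K := by rw [hZdef]; exact inf_le_left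
  have hZ1 : Z ≠ ⊥ := by
    obtain ⟨z, hz, hz1, hzc⟩ := hZ
    intro h
    have : z ∈ Z := (hZmem z).mpr ⟨hz, hzc⟩
    rw [h, Subgroup.mem_bot] at this
    exact hz1 this
  have hKconj : ∀ h ∈ stabilizer G α, ∀ k ∈ K, h * k * h⁻¹ ∈ K :=
    fun h hh k hk => (Subgroup.mem_normalizer_iff.mp (hKn hh) k).mp hk
  have hZn : stabilizer G α ≤ Subgroup.normalizer (Z : Set G) := by
    intro h hh
    apply TwoModFour.mem_normalizer_of_conj_mem
    intro z hz
    rw [hZmem] at hz ⊢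
    refine ⟨hKconj h hh z hz.1, fun k hk => ?_⟩
    have h1 := hz.2 (h⁻¹ * k * h⁻¹⁻¹) (hKconj h⁻¹ (Subgroup.inv_mem _ hh) k hk)
    calc k * (h * z * h⁻¹) = h * ((h⁻¹ * k * h⁻¹⁻¹) * z) * h⁻¹ := by group
      _ = h * (z * (h⁻¹ * k * h⁻¹⁻¹)) * h⁻¹ := by rw [h1]
      _ = (h * z * h⁻¹) * k := by group
  have hZc : ∀ a ∈ Z, ∀ b ∈ Z, a * b = b * a := by
    intro a ha b hb
    exact ((hZmem b).mp hb).2 a (hZK ha)
  have hKZ : K ≤ Z := by
    intro k hk
    apply self_cent hprim α hepα Z (hZK.trans hKH) hZn hZ1 hZc k (hKH hk)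
    intro z hz
    exact ((hZmem z).mp hz).2 k hk
  intro a ha b hb
  exact hZc a (hKZ ha) b (hKZ hb)

/-- Two nontrivial abelian normal subgroups of `G_α` coincide (one inclusion). -/
theorem unique_comm [Nontrivial Ω] (hprim : IsPreprimitive G Ω) (α : Ω)
    (hepα : ∀ ω : Ω, IsPreprimitive (stabilizer G α) (orbit (stabilizer G α) ω))
    (K₁ K₂ : Subgroup G) (h₁H : K₁ ≤ stabilizer G α) (h₂H : K₂ ≤ stabilizer G α)
    (h₁n : stabilizer G α ≤ Subgroup.normalizer (K₁ : Set G))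
    (h₂n : stabilizer G α ≤ Subgroup.normalizer (K₂ : Set G)) (h₁1 : K₁ ≠ ⊥)
    (h₁c : ∀ a ∈ K₁, ∀ b ∈ K₁, a * b = b * a) (h₂c : ∀ a ∈ K₂, ∀ b ∈ K₂, a * b = b * a) :
    K₂ ≤ K₁ := by
  by_cases hD : K₁ ⊓ K₂ = ⊥
  · have hcomm : ∀ k₂ ∈ K₂, ∀ k₁ ∈ K₁, k₂ * k₁ = k₁ * k₂ := by
      intro k₂ hk₂ k₁ hk₁
      have h1 : k₂ * k₁ * k₂⁻¹ * k₁⁻¹ ∈ K₁ ⊓ K₂ := by
        refine ⟨?_, ?_⟩
        · exact K₁.mul_mem ((Subgroup.mem_normalizer_iff.mp (h₁n (h₂H hk₂)) k₁).mp hk₁)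
            (K₁.inv_mem hk₁)
        · have : k₁ * k₂⁻¹ * k₁⁻¹ ∈ K₂ :=
            (Subgroup.mem_normalizer_iff.mp (h₂n (h₁H hk₁)) k₂⁻¹).mp (K₂.inv_mem hk₂)
          have e : k₂ * k₁ * k₂⁻¹ * k₁⁻¹ = k₂ * (k₁ * k₂⁻¹ * k₁⁻¹) := by group
          rw [e]; exact K₂.mul_mem hk₂ this
      rw [hD, Subgroup.mem_bot] at h1
      calc k₂ * k₁ = (k₂ * k₁ * k₂⁻¹ * k₁⁻¹) * (k₁ * k₂) := by group
        _ = k₁ * k₂ := by rw [h1, one_mul]
    intro k₂ hk₂
    exact self_cent hprim α hepα K₁ h₁H h₁n h₁1 h₁c k₂ (h₂H hk₂) (hcomm k₂ hk₂)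
  · have hDn : stabilizer G α ≤ Subgroup.normalizer ((K₁ ⊓ K₂ : Subgroup G) : Set G) := by
      intro h hh
      apply TwoModFour.mem_normalizer_of_conj_mem
      rintro d ⟨hd1, hd2⟩
      exact ⟨(Subgroup.mem_normalizer_iff.mp (h₁n hh) d).mp hd1,
        (Subgroup.mem_normalizer_iff.mp (h₂n hh) d).mp hd2⟩
    intro k₂ hk₂
    have := self_cent hprim α hepα (K₁ ⊓ K₂) (inf_le_left.trans h₁H) hDn hD
      (fun a ha b hb => h₁c a ha.1 b hb.1) k₂ (h₂H hk₂) (fun d hd => h₂c k₂ hk₂ d hd.2)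
    exact this.1

/-- A nontrivial abelian normal subgroup of `G_α` has prime exponent. -/
theorem exponent_p [Nontrivial Ω] (hprim : IsPreprimitive G Ω) (α : Ω)
    (hepα : ∀ ω : Ω, IsPreprimitive (stabilizer G α) (orbit (stabilizer G α) ω))
    (K : Subgroup G) (hKH : K ≤ stabilizer G α)
    (hKn : stabilizer G α ≤ Subgroup.normalizer (K : Set G)) (hK1 : K ≠ ⊥)
    (hKc : ∀ a ∈ K, ∀ b ∈ K, a * b = b * a) : ∃ p : ℕ, p.Prime ∧ ∀ x ∈ K, x ^ p = 1 := by
  haveI : Nontrivial K := (Subgroup.nontrivial_iff_ne_bot K).mpr hK1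
  obtain ⟨p, hp, hpd⟩ := Nat.exists_prime_and_dvd (show Nat.card K ≠ 1 from by
    have := Finite.one_lt_card (α := K); omega)
  haveI : Fact p.Prime := ⟨hp⟩
  obtain ⟨x, hx⟩ := exists_prime_orderOf_dvd_card' p hpd
  refine ⟨p, hp, ?_⟩
  let Kp : Subgroup G :=
    { carrier := {x | x ∈ K ∧ x ^ p = 1}
      mul_mem' := by
        rintro a b ⟨ha, ha'⟩ ⟨hb, hb'⟩
        refine ⟨K.mul_mem ha hb, ?_⟩
        rw [(show Commute a b from hKc a ha b hb).mul_pow, ha', hb', one_mul]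
      one_mem' := ⟨K.one_mem, one_pow _⟩
      inv_mem' := by
        rintro a ⟨ha, ha'⟩
        exact ⟨K.inv_mem ha, by rw [inv_pow, ha', inv_one]⟩ }
  have hKp : ∀ x, x ∈ Kp ↔ x ∈ K ∧ x ^ p = 1 := fun _ => Iff.rfl
  have hKpK : Kp ≤ K := fun x hx => ((hKp x).mp hx).1
  have hKp1 : Kp ≠ ⊥ := by
    intro h
    have hxp : (x : G) ^ p = 1 := by
      have := pow_orderOf_eq_one x
      rw [hx] at this
      have h2 := congrArg Subtype.val this
      simpa using h2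
    have : (x : G) ∈ Kp := (hKp _).mpr ⟨x.2, hxp⟩
    rw [h, Subgroup.mem_bot] at this
    have hx1 : x = 1 := Subtype.ext this
    rw [hx1, orderOf_one] at hx
    exact hp.ne_one hx.symm
  have hKpn : stabilizer G α ≤ Subgroup.normalizer (Kp : Set G) := by
    intro h hh
    apply TwoModFour.mem_normalizer_of_conj_mem
    rintro y ⟨hy, hy'⟩
    refine ⟨(Subgroup.mem_normalizer_iff.mp (hKn hh) y).mp hy, ?_⟩
    rw [conj_pow, hy']; group
  have hle := unique_comm hprim α hepα Kp K (hKpK.trans hKH) hKH hKpn hKn hKp1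
    (fun a ha b hb => hKc a (hKpK ha) b (hKpK hb)) hKc
  intro y hy
  exact ((hKp y).mp (hle hy)).2

/-- The order of a nontrivial abelian normal subgroup of `G_α` divides `|Ω| - 1`. -/
theorem card_dvd [Nontrivial Ω] (hprim : IsPreprimitive G Ω) (α : Ω)
    (hepα : ∀ ω : Ω, IsPreprimitive (stabilizer G α) (orbit (stabilizer G α) ω))
    (K : Subgroup G) (hKH : K ≤ stabilizer G α)
    (hKn : stabilizer G α ≤ Subgroup.normalizer (K : Set G)) (hK1 : K ≠ ⊥)
    (hKc : ∀ a ∈ K, ∀ b ∈ K, a * b = b * a) : Nat.card K ∣ Fintype.card Ω - 1 := by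
  classical
  haveI : Fintype K := Fintype.ofFinite K
  have hfix : ∀ k : K, k ≠ 1 → ∀ ω : Ω, k • ω = ω ↔ ω = α := by
    intro k hk ω
    constructor
    · intro h
      by_contra hω
      apply hk
      apply Subtype.ext
      exact cent_fix hprim α hepα K hKH hKn hK1 ω hω k (hKH k.2)
        (fun k' hk' => hKc k k.2 k' hk') h
    · rintro rfl; exact hKH k.2
  have hB := MulAction.sum_card_fixedBy_eq_card_orbits_mul_card_group K Ω
  have hn : 1 ≤ Fintype.card Ω := Fintype.card_pos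
  have h1 : ∀ k : K, Fintype.card (fixedBy Ω k) =
      1 + (if k = 1 then Fintype.card Ω - 1 else 0) := by
    intro k
    split_ifs with hk
    · rw [hk]
      have : Fintype.card (fixedBy Ω (1 : K)) = Fintype.card Ω :=
        Fintype.card_of_subtype Finset.univ (fun x => by simp [mem_fixedBy])
      omega
    · rw [add_zero, Fintype.card_eq_one_iff]
      exact ⟨⟨α, (hfix k hk α).mpr rfl⟩, fun ⟨y, hy⟩ => Subtype.ext ((hfix k hk y).mp hy)⟩
  rw [Finset.sum_congr rfl (fun k _ => h1 k)] at hB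
  simp only [Finset.sum_add_distrib, Finset.sum_const, Finset.card_univ, smul_eq_mul, mul_one,
    Finset.sum_ite_eq', Finset.mem_univ, if_true] at hB
  rw [Nat.card_eq_fintype_card]
  exact (Nat.dvd_add_right (dvd_refl _)).mp ⟨_, by rw [hB, mul_comm]⟩

end Cfsg.Agent.Helper20.ExtFit
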