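import Mathlib

set_option autoImplicit false

/-!
Fixed-point counting for a `p`-group (`p ≥ 3`) acting faithfully and irreducibly on an abelian
group of order prime to `p`: for every generating set `S` there is `c ∈ S` with
`|C_V(c)|^3 ≤ |V|`.
-/

namespace Cfsg.Agent.Helper20.FixCount

open Subgroup

variable {V Q : Type*} [CommGroup V] [Group Q] [MulDistribMulAction Q V]

/-- fixed points of `q` on `V` -/
def fixSub (q : Q) : Subgroup V where
  carrier := {v | q • v = v}
  mul_mem' := by
    intro a b ha hb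
    change q • a = a at ha
    change q • b = b at hb
    show q • (a * b) = a * b
    rw [smul_mul', ha, hb]
  one_mem' := smul_one q
  inv_mem' := by
    intro a ha
    change q • a = a at ha
    show q • a⁻¹ = a⁻¹
    rw [smul_inv', ha]

theorem mem_fixSub (q : Q) (v : V) : v ∈ (fixSub q : Subgroup V) ↔ q • v = v := Iff.rfl

theorem fix_central_eq_bot
    (hfaith : ∀ q : Q, (∀ v : V, q • v = v) → q = 1)
    (hirr : ∀ W : Subgroup V, (∀ q : Q, ∀ w ∈ W, q • w ∈ W) → W = ⊥ ∨ W = ⊤)
    (u : Q) (hu : u ∈ center Q) (hu1 : u ≠ 1) : (fixSub u : Subgroup V) = ⊥ := by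
  have hinv : ∀ q : Q, ∀ w ∈ (fixSub u : Subgroup V), q • w ∈ (fixSub u : Subgroup V) := by
    intro q w hw
    rw [mem_fixSub] at hw ⊢
    rw [← mul_smul, ← (Subgroup.mem_center_iff.mp hu q), mul_smul, hw]
  rcases hirr (fixSub u) hinv with h | h
  · exact h
  · exfalso
    apply hu1
    apply hfaith
    intro v
    have : v ∈ (fixSub u : Subgroup V) := by rw [h]; trivial
    exact this

theorem conj_pow {a c z : Q} (hz : z ∈ center Q) (hac : a * c * a⁻¹ = z * c) (n : ℕ) :
    a ^ n * c = z ^ n * c * a ^ n := by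
  have h1 : a * c = z * c * a := by
    rw [← hac]; group
  induction n with
  | zero => simp
  | succ n ih =>
    have hzn : a * z ^ n = z ^ n * a := Subgroup.mem_center_iff.mp (Subgroup.pow_mem _ hz n) a
    calc a ^ (n + 1) * c = a * (a ^ n * c) := by rw [pow_succ']; group
      _ = a * (z ^ n * c * a ^ n) := by rw [ih]
      _ = (a * z ^ n) * c * a ^ n := by group
      _ = z ^ n * (a * c) * a ^ n := by rw [hzn]; group
      _ = z ^ n * (z * c * a) * a ^ n := by rw [h1]
      _ = z ^ (n + 1) * c * a ^ (n + 1) := by rw [pow_succ, pow_succ']; group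

theorem card_fix_cube_le [Finite V] (p : ℕ) [hp : Fact p.Prime] (hp3 : 3 ≤ p)
    (hV : (Nat.card V).Coprime p)
    (hfix : ∀ u : Q, u ∈ center Q → u ≠ 1 → (fixSub u : Subgroup V) = ⊥)
    (a c z : Q) (hz : z ∈ center Q) (hz1 : z ≠ 1) (hzp : z ^ p = 1)
    (hac : a * c * a⁻¹ = z * c) :
    Nat.card (fixSub c : Subgroup V) ^ 3 ≤ Nat.card V := by
  classical
  have hord : orderOf z = p := orderOf_eq_prime hzp hz1
  let W : ℕ → Subgroup V := fun i => fixSub (z ^ i * c)
  have hW0 : W 0 = fixSub c := by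
    show fixSub (z ^ 0 * c) = fixSub c
    rw [pow_zero, one_mul]
  have hconj := fun n => conj_pow hz hac n
  -- conjugation by `a ^ i` embeds `W 0` into `W i`
  have hle : ∀ i : ℕ, Nat.card (W 0) ≤ Nat.card (W i) := by
    intro i
    have hmem : ∀ v : W 0, a ^ i • (v : V) ∈ W i := by
      intro v
      have hv : c • (v : V) = v := by
        have h0 : (z ^ 0 * c) • (v : V) = v := v.2
        rwa [pow_zero, one_mul] at h0
      show (z ^ i * c) • a ^ i • (v : V) = a ^ i • (v : V)
      rw [← mul_smul, ← hconj i, mul_smul, hv]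
    apply Nat.card_le_card_of_injective (fun v : W 0 => (⟨a ^ i • (v : V), hmem v⟩ : W i))
    intro v w hvw
    have : a ^ i • (v : V) = a ^ i • (w : V) := congrArg Subtype.val hvw
    exact Subtype.ext (smul_left_cancel _ this)
  -- the averaging operators
  let S : ℕ → V → V := fun j v => ∏ k ∈ Finset.range p, (z ^ j * c) ^ k • v
  have hSmul : ∀ j v w, S j (v * w) = S j v * S j w := by
    intro j v w
    show ∏ k ∈ Finset.range p, (z ^ j * c) ^ k • (v * w) = _
    simp only [smul_mul']
    exact Finset.prod_mul_distrib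
  have hkey : ∀ i j : ℕ, ∀ k : ℕ, ∀ u ∈ W i,
      (z ^ j * c) ^ k • u = (z ^ ((j : ℤ) - (i : ℤ))) ^ k • u := by
    intro i j k
    have hgc : z ^ ((j : ℤ) - (i : ℤ)) ∈ center Q := Subgroup.zpow_mem _ hz _
    have hstep : ∀ u ∈ W i, (z ^ j * c) • u = z ^ ((j : ℤ) - (i : ℤ)) • u := by
      intro u hu
      have hu' : (z ^ i * c) • u = u := hu
      have hcu : c • u = (z ^ i)⁻¹ • u := by
        rw [eq_inv_smul_iff, ← mul_smul]
        exact hu'
      rw [mul_smul, hcu, ← mul_smul, zpow_sub, zpow_natCast, zpow_natCast]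
    have hstab : ∀ u ∈ W i, z ^ ((j : ℤ) - (i : ℤ)) • u ∈ W i := by
      intro u hu
      have hu' : (z ^ i * c) • u = u := hu
      show (z ^ i * c) • z ^ ((j : ℤ) - (i : ℤ)) • u = z ^ ((j : ℤ) - (i : ℤ)) • u
      rw [← mul_smul, Subgroup.mem_center_iff.mp hgc (z ^ i * c), mul_smul, hu']
    induction k with
    | zero => intro u _; simp
    | succ k ih =>
      intro u hu
      rw [pow_succ, mul_smul, hstep u hu, ih _ (hstab u hu), ← mul_smul, ← pow_succ]
  have hS_same : ∀ i : ℕ, ∀ u ∈ W i, S i u = u ^ p := by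
    intro i u hu
    show ∏ k ∈ Finset.range p, (z ^ i * c) ^ k • u = u ^ p
    have : ∀ k ∈ Finset.range p, (z ^ i * c) ^ k • u = u := by
      intro k _
      rw [hkey i i k u hu]
      simp
    rw [Finset.prod_congr rfl this]
    simp
  have hS_diff : ∀ i j : ℕ, i < 3 → j < 3 → i ≠ j → ∀ u ∈ W i, S j u = 1 := by
    intro i j hi hj hij u hu
    set g : Q := z ^ ((j : ℤ) - (i : ℤ)) with hg
    have hgc : g ∈ center Q := Subgroup.zpow_mem _ hz _
    have hg1 : g ≠ 1 := by
      intro h1
      have hdvd : ((orderOf z : ℕ) : ℤ) ∣ (j : ℤ) - (i : ℤ) := orderOf_dvd_iff_zpow_eq_one.mpr h1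
      rw [hord] at hdvd
      have habs : |(j : ℤ) - (i : ℤ)| < (p : ℤ) := by
        rw [abs_lt]
        constructor <;> omega
      have := Int.eq_zero_of_abs_lt_dvd hdvd habs
      omega
    have hgp : g ^ p = 1 := by
      rw [hg, ← zpow_natCast, ← zpow_mul, mul_comm, zpow_mul, zpow_natCast, hzp, one_zpow]
    have hSj : S j u = ∏ k ∈ Finset.range p, g ^ k • u := by
      show ∏ k ∈ Finset.range p, (z ^ j * c) ^ k • u = _
      apply Finset.prod_congr rfl
      intro k _
      exact hkey i j k u hu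
    rw [hSj]
    have hfixed : g • (∏ k ∈ Finset.range p, g ^ k • u) = ∏ k ∈ Finset.range p, g ^ k • u := by
      rw [Finset.smul_prod']
      have e1 := Finset.prod_range_succ' (fun k => g ^ k • u) p
      have e2 := Finset.prod_range_succ (fun k => g ^ k • u) p
      rw [e1] at e2
      simp only [pow_zero, one_smul, hgp] at e2
      have e3 := mul_right_cancel e2
      rw [← e3]
      apply Finset.prod_congr rfl
      intro k _
      rw [← mul_smul, ← pow_succ']
    have hmem : (∏ k ∈ Finset.range p, g ^ k • u) ∈ (fixSub g : Subgroup V) := hfixed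
    rw [hfix g hgc hg1, Subgroup.mem_bot] at hmem
    exact hmem
  -- injectivity of the product map
  have hpow_inj : ∀ v w : V, v ^ p = w ^ p → v = w := by
    intro v w h
    exact (powCoprime hV).injective (by simpa [powCoprime] using h)
  have hinj : Function.Injective
      (fun w : (W 0) × (W 1) × (W 2) => (w.1 : V) * (w.2.1 : V) * (w.2.2 : V)) := by
    rintro ⟨⟨w0, h0⟩, ⟨w1, h1⟩, ⟨w2, h2⟩⟩ ⟨⟨w0', h0'⟩, ⟨w1', h1'⟩, ⟨w2', h2'⟩⟩ hEq
    simp only at hEq
    have e0 : w0 ^ p = w0' ^ p := by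
      have := congrArg (S 0) hEq
      rw [hSmul, hSmul, hSmul, hSmul, hS_same 0 w0 h0, hS_same 0 w0' h0',
        hS_diff 1 0 (by norm_num) (by norm_num) (by norm_num) w1 h1,
        hS_diff 1 0 (by norm_num) (by norm_num) (by norm_num) w1' h1',
        hS_diff 2 0 (by norm_num) (by norm_num) (by norm_num) w2 h2,
        hS_diff 2 0 (by norm_num) (by norm_num) (by norm_num) w2' h2'] at this
      simpa using this
    have e1 : w1 ^ p = w1' ^ p := by
      have := congrArg (S 1) hEq
      rw [hSmul, hSmul, hSmul, hSmul, hS_same 1 w1 h1, hS_same 1 w1' h1',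
        hS_diff 0 1 (by norm_num) (by norm_num) (by norm_num) w0 h0,
        hS_diff 0 1 (by norm_num) (by norm_num) (by norm_num) w0' h0',
        hS_diff 2 1 (by norm_num) (by norm_num) (by norm_num) w2 h2,
        hS_diff 2 1 (by norm_num) (by norm_num) (by norm_num) w2' h2'] at this
      simpa using this
    have e2 : w2 ^ p = w2' ^ p := by
      have := congrArg (S 2) hEq
      rw [hSmul, hSmul, hSmul, hSmul, hS_same 2 w2 h2, hS_same 2 w2' h2',
        hS_diff 0 2 (by norm_num) (by norm_num) (by norm_num) w0 h0,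
        hS_diff 0 2 (by norm_num) (by norm_num) (by norm_num) w0' h0',
        hS_diff 1 2 (by norm_num) (by norm_num) (by norm_num) w1 h1,
        hS_diff 1 2 (by norm_num) (by norm_num) (by norm_num) w1' h1'] at this
      simpa using this
    have := hpow_inj _ _ e0
    have := hpow_inj _ _ e1
    have := hpow_inj _ _ e2
    subst_vars
    rfl
  have hcard := Nat.card_le_card_of_injective _ hinj
  rw [Nat.card_prod, Nat.card_prod] at hcard
  have h1 := hle 1
  have h2 := hle 2
  rw [← hW0]
  calc Nat.card (W 0) ^ 3 = Nat.card (W 0) * (Nat.card (W 0) * Nat.card (W 0)) := by ring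
    _ ≤ Nat.card (W 0) * (Nat.card (W 1) * Nat.card (W 2)) :=
        Nat.mul_le_mul_left _ (Nat.mul_le_mul h1 h2)
    _ ≤ Nat.card V := hcard

theorem exists_cube_le [Finite V] [Finite Q] (p : ℕ) [hp : Fact p.Prime] (hp3 : 3 ≤ p)
    (hV : (Nat.card V).Coprime p) (hQ : IsPGroup p Q) [hQ1 : Nontrivial Q]
    (hfaith : ∀ q : Q, (∀ v : V, q • v = v) → q = 1)
    (hirr : ∀ W : Subgroup V, (∀ q : Q, ∀ w ∈ W, q • w ∈ W) → W = ⊥ ∨ W = ⊤)
    (S : Set Q) (hS : closure S = ⊤) :
    ∃ c ∈ S, Nat.card (fixSub c : Subgroup V) ^ 3 ≤ Nat.card V := by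
  classical
  have hfix := fix_central_eq_bot hfaith hirr
  by_cases hab : ∀ a b : Q, a * b = b * a
  · -- abelian case
    have hex : ∃ c ∈ S, c ≠ 1 := by
      by_contra hcon
      push Not at hcon
      have : closure S = ⊥ := by
        rw [Subgroup.closure_eq_bot_iff]
        intro c hc
        exact hcon c hc
      rw [hS] at this
      exact top_ne_bot this
    obtain ⟨c, hc, hc1⟩ := hex
    refine ⟨c, hc, ?_⟩
    have hcc : c ∈ center Q := Subgroup.mem_center_iff.mpr (fun g => hab g c)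
    rw [hfix c hcc hc1]
    simp
    exact Nat.one_le_iff_ne_zero.mpr (Nat.card_pos).ne'
  · -- nonabelian case
    push Not at hab
    obtain ⟨a0, b0, hab0⟩ := hab
    have ha0 : a0 ∉ center Q := by
      intro h
      exact hab0 ((Subgroup.mem_center_iff.mp h b0).symm)
    haveI : Nontrivial (Q ⧸ center Q) := by
      refine nontrivial_of_ne ((QuotientGroup.mk a0 : Q ⧸ center Q)) 1 ?_
      intro h
      exact ha0 ((QuotientGroup.eq_one_iff a0).mp h)
    have hQq : IsPGroup p (Q ⧸ center Q) := hQ.to_quotient (center Q)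
    haveI := hQq.center_nontrivial
    obtain ⟨⟨abar, habar⟩, hne⟩ := exists_ne (1 : center (Q ⧸ center Q))
    obtain ⟨a, rfl⟩ := QuotientGroup.mk_surjective abar
    have ha : a ∉ center Q := by
      intro h
      apply hne
      apply Subtype.ext
      exact (QuotientGroup.eq_one_iff a).mpr h
    have hcomm : ∀ q : Q, a * q * a⁻¹ * q⁻¹ ∈ center Q := by
      intro q
      have := Subgroup.mem_center_iff.mp habar (QuotientGroup.mk q)
      rw [← QuotientGroup.eq_one_iff]
      have h2 : ((a * q * a⁻¹ * q⁻¹ : Q) : Q ⧸ center Q)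
          = (QuotientGroup.mk a) * (QuotientGroup.mk q) * (QuotientGroup.mk a)⁻¹
            * (QuotientGroup.mk q)⁻¹ := by
        simp
      rw [h2, ← this]
      group
    have hexc : ∃ c ∈ S, a * c ≠ c * a := by
      by_contra hcon
      push Not at hcon
      have hle : closure S ≤ centralizer ({a} : Set Q) := by
        rw [Subgroup.closure_le]
        intro c hc
        rw [SetLike.mem_coe, Subgroup.mem_centralizer_iff]
        intro h hh
        rw [Set.mem_singleton_iff] at hh
        rw [hh]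
        exact hcon c hc
      rw [hS] at hle
      apply ha
      rw [Subgroup.mem_center_iff]
      intro g
      have := Subgroup.mem_centralizer_iff.mp (hle (Subgroup.mem_top g)) a rfl
      exact this.symm
    obtain ⟨c, hc, hcne⟩ := hexc
    refine ⟨c, hc, ?_⟩
    set z : Q := a * c * a⁻¹ * c⁻¹ with hzdef
    have hz : z ∈ center Q := hcomm c
    have hz1 : z ≠ 1 := by
      intro h
      apply hcne
      have : a * c * a⁻¹ * c⁻¹ = 1 := h
      calc a * c = (a * c * a⁻¹ * c⁻¹) * (c * a) := by group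
        _ = c * a := by rw [this, one_mul]
    have hac : a * c * a⁻¹ = z * c := by rw [hzdef]; group
    obtain ⟨k, hk⟩ := hQ z
    have hdvd : orderOf z ∣ p ^ k := orderOf_dvd_of_pow_eq_one hk
    obtain ⟨j, -, hj⟩ := (Nat.dvd_prime_pow hp.out).mp hdvd
    have hj0 : j ≠ 0 := by
      intro h
      rw [h, pow_zero, orderOf_eq_one_iff] at hj
      exact hz1 hj
    set m : ℕ := p ^ (j - 1) with hm
    have hmp : m * p = p ^ j := by
      rw [hm, ← pow_succ]
      congr 1
      omega
    have hz'p : (z ^ m) ^ p = 1 := by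
      rw [← pow_mul, hmp, ← hj, pow_orderOf_eq_one]
    have hz'1 : z ^ m ≠ 1 := by
      intro h
      have h2 : orderOf z ∣ m := orderOf_dvd_of_pow_eq_one h
      rw [hj, hm] at h2
      have := (Nat.pow_dvd_pow_iff_le_right hp.out.one_lt).mp h2
      omega
    have hac' : a ^ m * c * (a ^ m)⁻¹ = z ^ m * c := by
      rw [conj_pow hz hac m]
      group
    exact card_fix_cube_le p hp3 hV hfix (a ^ m) c (z ^ m) (Subgroup.pow_mem _ hz m) hz'1 hz'p hac'

/-- **Main counting lemma.** -/
theorem exists_small_fix [Finite V] [Finite Q] (p : ℕ) [hp : Fact p.Prime] (hp3 : 3 ≤ p)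
    (hV : (Nat.card V).Coprime p) (hQ : IsPGroup p Q) [hQ1 : Nontrivial Q]
    (hfaith : ∀ q : Q, (∀ v : V, q • v = v) → q = 1)
    (hirr : ∀ W : Subgroup V, (∀ q : Q, ∀ w ∈ W, q • w ∈ W) → W = ⊥ ∨ W = ⊤)
    (C D : Set Q) (hC : closure C = ⊤) (hD : closure D = ⊤) :
    ∃ c ∈ C, ∃ d ∈ D,
      Nat.card (fixSub c : Subgroup V) * Nat.card (fixSub d : Subgroup V) < Nat.card V := by
  obtain ⟨c, hc, hc3⟩ := exists_cube_le p hp3 hV hQ hfaith hirr C hC
  obtain ⟨d, hd, hd3⟩ := exists_cube_le p hp3 hV hQ hfaith hirr D hD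
  refine ⟨c, hc, d, hd, ?_⟩
  have hV2 : 2 ≤ Nat.card V := by
    obtain ⟨q, hq⟩ := exists_ne (1 : Q)
    have : ∃ v : V, q • v ≠ v := by
      by_contra hcon
      push Not at hcon
      exact hq (hfaith q hcon)
    obtain ⟨v, hv⟩ := this
    haveI : Nontrivial V := by
      refine nontrivial_of_ne v 1 ?_
      intro h
      rw [h, smul_one] at hv
      exact hv rfl
    exact Finite.one_lt_card
  set x := Nat.card (fixSub c : Subgroup V)
  set y := Nat.card (fixSub d : Subgroup V)
  set n := Nat.card V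
  have h1 : (x * y) ^ 3 ≤ n * n := by
    rw [mul_pow]
    exact Nat.mul_le_mul hc3 hd3
  have h2 : n * n < n ^ 3 := by
    have : n * n * 2 ≤ n * n * n := Nat.mul_le_mul_left _ hV2
    have hpos : 0 < n * n := by positivity
    nlinarith
  exact lt_of_pow_lt_pow_left₀ 3 (Nat.zero_le _) (lt_of_le_of_lt h1 h2)

/-- Version for a group with a commutativity hypothesis. -/
theorem exists_small_fix' {V Q : Type*} [Group V] [Group Q] [MulDistribMulAction Q V]
    [Finite V] [Finite Q] (hcomm : ∀ a b : V, a * b = b * a)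
    (p : ℕ) [hp : Fact p.Prime] (hp3 : 3 ≤ p)
    (hV : (Nat.card V).Coprime p) (hQ : IsPGroup p Q) [hQ1 : Nontrivial Q]
    (hfaith : ∀ q : Q, (∀ v : V, q • v = v) → q = 1)
    (hirr : ∀ W : Subgroup V, (∀ q : Q, ∀ w ∈ W, q • w ∈ W) → W = ⊥ ∨ W = ⊤)
    (C D : Set Q) (hC : closure C = ⊤) (hD : closure D = ⊤) :
    ∃ c ∈ C, ∃ d ∈ D,
      Nat.card {v : V // c • v = v} * Nat.card {v : V // d • v = v} < Nat.card V := by
  letI : CommGroup V := { ‹Group V› with mul_comm := hcomm }
  obtain ⟨c, hc, d, hd, h⟩ := exists_small_fix (V := V) (Q := Q) p hp3 hV hQ hfaith hirr C D hC hD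
  exact ⟨c, hc, d, hd, h⟩

end Cfsg.Agent.Helper20.FixCount
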