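import Mathlib

/-!
# Permutations of `F_p` preserving a difference set are affine (P. Müller's proof of
Burnside's theorem on permutation groups of prime degree)
-/

set_option autoImplicit false
open Polynomial

namespace Cfsg.Agent.Helper20

section core
variable {p : ℕ} [hp : Fact p.Prime] {K : Type*} [Field K] (ι : ZMod p →+* K)

/-- the function on `F_p` given by a polynomial over `K`. -/
def evf (P : K[X]) : ZMod p → K := fun x => P.eval (ι x)

theorem evf_apply (P : K[X]) (x : ZMod p) : evf ι P x = P.eval (ι x) := rfl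

theorem evf_inj {P Q : K[X]} (hP : P.natDegree < p) (hQ : Q.natDegree < p)
    (h : evf ι P = evf ι Q) : P = Q := by
  classical
  have hinj : Set.InjOn (fun x : ZMod p => ι x) (Finset.univ : Finset (ZMod p)) :=
    fun x _ y _ hxy => ι.injective hxy
  have hcard : (Finset.univ : Finset (ZMod p)).card = p := by
    rw [Finset.card_univ, ZMod.card]
  apply Polynomial.eq_of_degrees_lt_of_eval_index_eq (Finset.univ : Finset (ZMod p)) hinj
  · rw [hcard]; exact lt_of_le_of_lt degree_le_natDegree (by exact_mod_cast hP)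
  · rw [hcard]; exact lt_of_le_of_lt degree_le_natDegree (by exact_mod_cast hQ)
  · intro x _; exact congrFun h x

theorem exists_evf (f : ZMod p → K) : ∃ P : K[X], P.natDegree < p ∧ f = evf ι P := by
  classical
  have hinj : Set.InjOn (fun x : ZMod p => ι x) (Finset.univ : Finset (ZMod p)) :=
    fun x _ y _ hxy => ι.injective hxy
  refine ⟨Lagrange.interpolate Finset.univ (fun x : ZMod p => ι x) f, ?_, ?_⟩
  · have h := Lagrange.degree_interpolate_lt (r := f) hinj
    rw [Finset.card_univ, ZMod.card] at h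
    by_cases h0 : Lagrange.interpolate Finset.univ (fun x : ZMod p => ι x) f = 0
    · rw [h0, natDegree_zero]; exact hp.out.pos
    · exact (natDegree_lt_iff_degree_lt h0).mpr h
  · funext x
    exact (Lagrange.eval_interpolate_at_node (r := f) hinj (Finset.mem_univ x)).symm

/-- the shift operator `f ↦ f(· + s)`. -/
def shiftOp (s : ZMod p) : Module.End K (ZMod p → K) :=
  LinearMap.funLeft K K (fun y : ZMod p => y + s)

theorem shiftOp_apply (s : ZMod p) (f : ZMod p → K) (y : ZMod p) :
    shiftOp s f y = f (y + s) := rfl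

theorem shiftOp_pow (n : ℕ) :
    (shiftOp (1 : ZMod p) : Module.End K (ZMod p → K)) ^ n = shiftOp (n : ZMod p) := by
  induction n with
  | zero =>
    ext f y
    simp [shiftOp_apply]
  | succ n ih =>
    rw [pow_succ, ih]
    apply LinearMap.ext
    intro f
    funext y
    rw [Module.End.mul_apply, shiftOp_apply, shiftOp_apply, shiftOp_apply, Nat.cast_succ, add_assoc]

/-- the difference operator. -/
def deltaOp : Module.End K (ZMod p → K) := shiftOp 1 - 1

theorem deltaOp_apply (f : ZMod p → K) (y : ZMod p) : deltaOp f y = f (y + 1) - f y := rfl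

/-- the difference of a polynomial. -/
noncomputable def dpoly (P : K[X]) : K[X] := taylor 1 P - P

theorem deltaOp_evf (P : K[X]) : deltaOp (evf ι P) = evf ι (dpoly P) := by
  funext y
  simp [deltaOp_apply, evf, dpoly, taylor_eval]

theorem dpoly_of_natDegree_eq_zero (P : K[X]) (h : P.natDegree = 0) : dpoly P = 0 := by
  rw [eq_C_of_natDegree_eq_zero h]
  simp [dpoly]

theorem natDegree_dpoly_lt (P : K[X]) (h : 0 < P.natDegree) : (dpoly P).natDegree < P.natDegree := by
  have hP0 : P ≠ 0 := by
    rintro rfl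
    simp at h
  by_cases hz : dpoly P = 0
  · rw [hz, natDegree_zero]; exact h
  · have hT0 : taylor 1 P ≠ 0 := by
      intro h0
      have := natDegree_taylor P 1
      rw [h0, natDegree_zero] at this
      omega
    have hlt : (taylor 1 P - P).degree < (taylor 1 P).degree :=
      degree_sub_lt_left (degree_taylor P 1) hT0 (leadingCoeff_taylor 1 P)
    have := natDegree_lt_natDegree hz hlt
    rwa [natDegree_taylor] at this

theorem natDegree_dpoly_le (P : K[X]) : (dpoly P).natDegree ≤ P.natDegree - 1 := by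
  rcases Nat.eq_zero_or_pos P.natDegree with h | h
  · rw [dpoly_of_natDegree_eq_zero P h]; simp
  · have := natDegree_dpoly_lt P h
    omega

theorem deltaOp_pow_evf_eq_zero (d : ℕ) :
    ∀ P : K[X], P.natDegree ≤ d → (deltaOp ^ (d + 1)) (evf ι P) = 0 := by
  induction d with
  | zero =>
    intro P hP
    rw [zero_add, pow_one, deltaOp_evf, dpoly_of_natDegree_eq_zero P (by omega)]
    funext y
    simp [evf]
  | succ d ih =>
    intro P hP
    rw [pow_succ, Module.End.mul_apply, deltaOp_evf]
    apply ih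
    have := natDegree_dpoly_le P
    omega

include ι in
theorem deltaOp_pow_card (f : ZMod p → K) : (deltaOp ^ p) f = 0 := by
  obtain ⟨P, hP, rfl⟩ := exists_evf ι f
  have h := deltaOp_pow_evf_eq_zero ι (p - 1) P (by omega)
  have hp1 : p - 1 + 1 = p := Nat.sub_add_cancel hp.out.pos
  rwa [hp1] at h

theorem deltaOp_pow_evf (n : ℕ) (P : K[X]) :
    (deltaOp ^ n) (evf ι P) = evf ι (dpoly^[n] P) := by
  induction n with
  | zero => simp
  | succ n ih =>
    rw [pow_succ', Module.End.mul_apply, ih, deltaOp_evf, Function.iterate_succ_apply']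

variable [CharP K p]

theorem coeff_dpoly (P : K[X]) (h0 : 0 < P.natDegree) :
    (dpoly P).coeff (P.natDegree - 1) = (P.natDegree : K) * P.leadingCoeff := by
  have hdeg : (hasseDeriv (P.natDegree - 1) P).natDegree < 2 := by
    have := natDegree_hasseDeriv_le P (P.natDegree - 1)
    omega
  rw [dpoly, coeff_sub, taylor_coeff, eval_eq_sum_range' hdeg]
  simp only [Finset.sum_range_succ, Finset.sum_range_zero, hasseDeriv_coeff, one_pow, mul_one,
    zero_add]
  have h1 : 1 + (P.natDegree - 1) = P.natDegree := by omega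
  rw [h1, Nat.choose_self, Nat.cast_one, one_mul]
  have h2 : P.natDegree.choose (P.natDegree - 1) = P.natDegree := by
    rw [Nat.choose_symm (by omega : 1 ≤ P.natDegree), Nat.choose_one_right]
  rw [h2, ← coeff_natDegree]
  ring

theorem coeff_dpoly_ne_zero (P : K[X]) (h0 : 0 < P.natDegree) (hlt : P.natDegree < p) :
    (dpoly P).coeff (P.natDegree - 1) ≠ 0 := by
  rw [coeff_dpoly P h0]
  have hP0 : P ≠ 0 := by
    rintro rfl
    simp at h0
  apply mul_ne_zero
  · intro h
    rw [CharP.cast_eq_zero_iff K p] at h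
    exact absurd (Nat.le_of_dvd h0 h) (by omega)
  · exact leadingCoeff_ne_zero.mpr hP0

theorem natDegree_dpoly (P : K[X]) (h0 : 0 < P.natDegree) (hlt : P.natDegree < p) :
    (dpoly P).natDegree = P.natDegree - 1 :=
  le_antisymm (natDegree_dpoly_le P) (le_natDegree_of_ne_zero (coeff_dpoly_ne_zero P h0 hlt))

theorem dpoly_ne_zero (P : K[X]) (h0 : 0 < P.natDegree) (hlt : P.natDegree < p) :
    dpoly P ≠ 0 := by
  intro h
  have := coeff_dpoly_ne_zero P h0 hlt
  rw [h] at this
  simp at this

theorem natDegree_dpoly_iterate (P : K[X]) (hlt : P.natDegree < p) (n : ℕ) (hn : n ≤ P.natDegree) :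
    (dpoly^[n] P).natDegree = P.natDegree - n := by
  induction n with
  | zero => simp
  | succ n ih =>
    have ih' := ih (by omega)
    rw [Function.iterate_succ_apply', natDegree_dpoly _ (by omega) (by omega), ih']
    omega

theorem natDegree_le_of_deltaOp_pow (d : ℕ) (P : K[X]) (hP : P.natDegree < p)
    (h : (deltaOp ^ (d + 1)) (evf ι P) = 0) : P.natDegree ≤ d := by
  by_contra hcon
  push Not at hcon
  rw [deltaOp_pow_evf] at h
  have h1 := natDegree_dpoly_iterate P hP d (by omega)
  have h2 : dpoly^[d + 1] P ≠ 0 := by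
    rw [Function.iterate_succ_apply']
    exact dpoly_ne_zero _ (by omega) (by omega)
  have h3 : (dpoly^[d + 1] P).natDegree < p := by
    rw [natDegree_dpoly_iterate P hP (d + 1) (by omega)]
    omega
  apply h2
  apply evf_inj ι h3 (by rw [natDegree_zero]; exact hp.out.pos)
  rw [h]
  funext y
  simp [evf]

theorem exists_of_deltaOp_pow (d : ℕ) (f : ZMod p → K) (h : (deltaOp ^ (d + 1)) f = 0) :
    ∃ P : K[X], P.natDegree ≤ d ∧ f = evf ι P := by
  obtain ⟨P, hP, rfl⟩ := exists_evf ι f
  exact ⟨P, natDegree_le_of_deltaOp_pow ι d P hP h, rfl⟩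

end core


section main
variable {p : ℕ} [hp : Fact p.Prime] {K : Type*} [Field K] [CharP K p] (ι : ZMod p →+* K)

/-- `opM S f (y) = Σ_{s∈S} (f(y+s) - f(y))`. -/
def opM (S : Finset (ZMod p)) : Module.End K (ZMod p → K) := ∑ s ∈ S, (shiftOp s - 1)

omit [CharP K p] in
theorem opM_apply (S : Finset (ZMod p)) (f : ZMod p → K) (y : ZMod p) :
    opM S f y = ∑ s ∈ S, (f (y + s) - f y) := by
  simp [opM, LinearMap.sum_apply, Finset.sum_apply, shiftOp_apply]

omit [CharP K p] in
theorem opM_comp (S : Finset (ZMod p)) (σ : Equiv.Perm (ZMod p))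
    (hσ : ∀ x y, x - y ∈ S ↔ σ x - σ y ∈ S) (f : ZMod p → K) :
    opM S (f ∘ σ) = (opM S f) ∘ σ := by
  funext y
  show opM S (f ∘ σ) y = opM S f (σ y)
  rw [opM_apply, opM_apply]
  simp only [Function.comp_apply]
  rw [Finset.sum_sub_distrib, Finset.sum_sub_distrib]
  congr 1
  apply Finset.sum_nbij' (fun s => σ (y + s) - σ y) (fun s => σ.symm (σ y + s) - y)
  · intro s hs
    apply (hσ (y + s) y).mp
    simpa using hs
  · intro s hs
    apply (hσ _ y).mpr
    simpa using hs
  · intro s _
    simp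
  · intro s _
    simp
  · intro s _
    simp

omit [CharP K p] in
theorem opM_pow_comp (S : Finset (ZMod p)) (σ : Equiv.Perm (ZMod p))
    (hσ : ∀ x y, x - y ∈ S ↔ σ x - σ y ∈ S) (k : ℕ) (f : ZMod p → K) :
    (opM S ^ k) (f ∘ σ) = ((opM S ^ k) f) ∘ σ := by
  induction k generalizing f with
  | zero => simp
  | succ k ih =>
    rw [pow_succ, Module.End.mul_apply, Module.End.mul_apply, opM_comp S σ hσ, ih]

/-- the polynomial `c_S` with `opM S = c_S(Δ)`. -/
noncomputable def cpoly (S : Finset (ZMod p)) : K[X] := ∑ s ∈ S, ((1 + X) ^ s.val - 1)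

omit [CharP K p] in
theorem aeval_cpoly (S : Finset (ZMod p)) :
    aeval (deltaOp : Module.End K (ZMod p → K)) (cpoly S : K[X]) = opM S := by
  rw [cpoly, opM, map_sum]
  apply Finset.sum_congr rfl
  intro s _
  rw [map_sub, map_pow, map_add, map_one, aeval_X]
  have : (1 : Module.End K (ZMod p → K)) + deltaOp = shiftOp 1 := by
    rw [deltaOp]; abel
  rw [this, shiftOp_pow, ZMod.natCast_zmod_val]

omit [CharP K p] in
theorem ker_pow_iff (c u b : K[X]) (j : ℕ) (hc : c = X ^ j * u)
    (hb : aeval (deltaOp : Module.End K (ZMod p → K)) (b * u) = 1) (k : ℕ) (f : ZMod p → K) :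
    ((aeval (deltaOp : Module.End K (ZMod p → K)) c) ^ k) f = 0 ↔ (deltaOp ^ (j * k)) f = 0 := by
  have key1 : c ^ k = u ^ k * X ^ (j * k) := by rw [hc]; ring
  have key2 : b ^ k * c ^ k = X ^ (j * k) * (b * u) ^ k := by rw [hc]; ring
  have e1 : (aeval (deltaOp : Module.End K (ZMod p → K)) c) ^ k
      = aeval deltaOp (u ^ k) * deltaOp ^ (j * k) := by
    rw [← map_pow, key1, map_mul, map_pow (aeval deltaOp) X, aeval_X]
  have e2 : aeval (deltaOp : Module.End K (ZMod p → K)) (b ^ k) * (aeval deltaOp c) ^ k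
      = deltaOp ^ (j * k) := by
    rw [← map_pow (aeval deltaOp) c, ← map_mul, key2, map_mul, map_pow (aeval deltaOp) X, aeval_X,
      map_pow (aeval deltaOp) (b * u), hb, one_pow, mul_one]
  constructor
  · intro h
    rw [← e2, Module.End.mul_apply, h, map_zero]
  · intro h
    rw [e1, Module.End.mul_apply, h, map_zero]

include ι in
theorem exists_inv_of_not_dvd (u : K[X]) (hu : ¬ X ∣ u) :
    ∃ b : K[X], aeval (deltaOp : Module.End K (ZMod p → K)) (b * u) = 1 := by
  have h1 : IsCoprime (X : K[X]) u := (irreducible_X.coprime_iff_not_dvd).mpr hu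
  have h2 : IsCoprime ((X : K[X]) ^ p) u := h1.pow_left
  obtain ⟨a, b, hab⟩ := h2
  refine ⟨b, ?_⟩
  have h3 := congrArg (aeval (deltaOp : Module.End K (ZMod p → K))) hab
  rw [map_add, map_mul, map_pow, aeval_X, map_one] at h3
  have h4 : (deltaOp : Module.End K (ZMod p → K)) ^ p = 0 := by
    apply LinearMap.ext
    intro f
    exact deltaOp_pow_card ι f
  rwa [h4, mul_zero, zero_add] at h3

/-- Lemma A: a permutation preserving the polynomial functions of degree `≤ d`
(`1 ≤ d ≤ (p-1)/2`) is affine. -/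
theorem affine_of_invariant (d : ℕ) (hd1 : 1 ≤ d) (hd2 : 2 * d ≤ p - 1) (σ : Equiv.Perm (ZMod p))
    (hinv : ∀ P : K[X], P.natDegree ≤ d → ∃ Q : K[X], Q.natDegree ≤ d ∧ (evf ι P) ∘ σ = evf ι Q) :
    ∀ x, σ x = (σ 1 - σ 0) * x + σ 0 := by
  have hp2 : 2 ≤ p := hp.out.two_le
  obtain ⟨Q, hQd, hQ⟩ := hinv X (by rw [natDegree_X]; exact hd1)
  have hQ' : ∀ x, ι (σ x) = Q.eval (ι x) := by
    intro x
    have := congrFun hQ x
    simpa [evf] using this
  have he : Q.natDegree ≤ 1 := by
    by_contra hcon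
    push Not at hcon
    set e := Q.natDegree with he_def
    set i := d / e + 1 with hi_def
    have h1 : d < e * i := Nat.lt_mul_div_succ d (by omega)
    have h2 : e * (d / e) ≤ d := Nat.mul_div_le d e
    have h3 : e * i ≤ 2 * d := by
      rw [hi_def, mul_add, mul_one]; omega
    have h4 : i ≤ d := by
      have : d / e ≤ d / 2 := Nat.div_le_div_left hcon (by norm_num)
      omega
    obtain ⟨R, hRd, hR⟩ := hinv (X ^ i) (by rw [natDegree_X_pow]; exact h4)
    have hQR : Q ^ i = R := by
      apply evf_inj ι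
      · rw [natDegree_pow, ← he_def]
        rw [mul_comm] at h3
        omega
      · omega
      · rw [← hR]
        funext x
        simp [evf, hQ']
    have hdeg : (Q ^ i).natDegree ≤ d := hQR ▸ hRd
    rw [natDegree_pow, ← he_def, mul_comm] at hdeg
    omega
  have hQform := eq_X_add_C_of_natDegree_le_one he
  have hlin : ∀ x, ι (σ x) = Q.coeff 1 * ι x + Q.coeff 0 := by
    intro x
    rw [hQ' x]
    conv_lhs => rw [hQform]
    simp
  intro x
  apply ι.injective
  have h0 := hlin 0
  have h1 := hlin 1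
  rw [ι.map_zero, mul_zero, zero_add] at h0
  rw [ι.map_one, mul_one] at h1
  rw [hlin x, ι.map_add, ι.map_mul, ι.map_sub, h1, h0]
  ring

end main

section final
variable {p : ℕ} [hp : Fact p.Prime]

theorem affine_of_diff_set_aux (S : Finset (ZMod p)) (h0 : (0 : ZMod p) ∉ S) (hne : S.Nonempty)
    (hcard : 2 * S.card ≤ p - 1) (σ : Equiv.Perm (ZMod p))
    (hσ : ∀ x y, x - y ∈ S ↔ σ x - σ y ∈ S) :
    ∀ x, σ x = (σ 1 - σ 0) * x + σ 0 := by
  classical
  let ι : ZMod p →+* ZMod p := RingHom.id _
  set m := S.card with hm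
  have hm1 : 1 ≤ m := Finset.card_pos.mpr hne
  have hp2 : 2 ≤ p := hp.out.two_le
  obtain ⟨s0, hs0⟩ := hne
  have hs00 : s0 ≠ 0 := by
    rintro rfl; exact h0 hs0
  have hstar : ∃ f : ZMod p → ZMod p, (deltaOp ^ (m + 1)) f = 0 ∧ opM S f ≠ 0 := by
    let P : (ZMod p)[X] := X * ∏ s ∈ S.erase s0, (X - C s)
    have hPev : ∀ x, evf ι P x = x * ∏ s ∈ S.erase s0, (x - s) := by
      intro x
      simp [evf, P, eval_prod, ι]
    refine ⟨evf ι P, ?_, ?_⟩
    · apply deltaOp_pow_evf_eq_zero
      have h1 : (∏ s ∈ S.erase s0, (X - C s : (ZMod p)[X])).natDegree ≤ (S.erase s0).card := by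
        refine (natDegree_prod_le _ _).trans ?_
        calc ∑ s ∈ S.erase s0, (X - C s : (ZMod p)[X]).natDegree
            ≤ ∑ s ∈ S.erase s0, 1 :=
              Finset.sum_le_sum (fun s _ => by rw [natDegree_X_sub_C])
          _ = (S.erase s0).card := by simp
      have h2 : P.natDegree ≤ (X : (ZMod p)[X]).natDegree
          + (∏ s ∈ S.erase s0, (X - C s : (ZMod p)[X])).natDegree := natDegree_mul_le
      have h3 : (X : (ZMod p)[X]).natDegree ≤ 1 := natDegree_X_le
      have h4 : (S.erase s0).card = m - 1 := Finset.card_erase_of_mem hs0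
      omega
    · intro hzero
      have h := congrFun hzero 0
      rw [opM_apply] at h
      have hsum : ∑ s ∈ S, (evf ι P (0 + s) - evf ι P 0) = evf ι P s0 := by
        rw [Finset.sum_eq_single s0]
        · rw [zero_add, hPev 0, zero_mul, sub_zero]
        · intro s hs hne
          rw [zero_add, hPev 0, zero_mul, sub_zero, hPev s]
          rw [Finset.prod_eq_zero (Finset.mem_erase.mpr ⟨hne, hs⟩) (sub_self s), mul_zero]
        · intro h; exact absurd hs0 h
      rw [hsum, hPev s0] at h
      have hprod : ∏ s ∈ S.erase s0, (s0 - s) ≠ 0 := by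
        rw [Finset.prod_ne_zero_iff]
        intro s hs
        exact sub_ne_zero.mpr (Ne.symm (Finset.mem_erase.mp hs).1)
      exact mul_ne_zero hs00 hprod h
  obtain ⟨f0, hf0, hf0'⟩ := hstar
  have hc0 : cpoly (K := ZMod p) S ≠ 0 := by
    intro h
    apply hf0'
    rw [← aeval_cpoly, h, map_zero]
    rfl
  obtain ⟨u, hcu, hu⟩ :=
    exists_eq_pow_rootMultiplicity_mul_and_not_dvd (cpoly (K := ZMod p) S) hc0 0
  set j0 := rootMultiplicity 0 (cpoly (K := ZMod p) S) with hj0
  rw [C_0, sub_zero] at hcu hu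
  obtain ⟨b, hb⟩ := exists_inv_of_not_dvd ι u hu
  have hker : ∀ (k : ℕ) (f : ZMod p → ZMod p),
      (opM S ^ k) f = 0 ↔ (deltaOp ^ (j0 * k)) f = 0 := by
    intro k f
    rw [← aeval_cpoly]
    exact ker_pow_iff _ u b j0 hcu hb k f
  have hj1 : 1 ≤ j0 := by
    by_contra hcon
    have hj : j0 = 0 := by omega
    rw [hj, pow_zero, one_mul] at hcu
    apply hu
    rw [← hcu, X_dvd_iff, coeff_zero_eq_eval_zero]
    simp [cpoly, eval_finsetSum]
  have hjm : j0 ≤ m := by
    by_contra hcon
    push Not at hcon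
    apply hf0'
    have h1 : (deltaOp ^ (j0 * 1)) f0 = 0 := by
      rw [mul_one]
      have : j0 = (j0 - (m + 1)) + (m + 1) := by omega
      rw [this, pow_add, Module.End.mul_apply, hf0, map_zero]
    have := (hker 1 f0).mpr h1
    rwa [pow_one] at this
  rcases Nat.lt_or_ge j0 2 with hj | hj
  · have hj01 : j0 = 1 := by omega
    apply affine_of_invariant ι 1 le_rfl (by omega) σ
    intro P hP
    have h1 : (deltaOp ^ (1 + 1)) (evf ι P) = 0 := deltaOp_pow_evf_eq_zero ι 1 P hP
    have h2 : (opM S ^ 2) (evf ι P) = 0 := by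
      rw [hker, hj01]; exact h1
    have h3 : (opM S ^ 2) (evf ι P ∘ σ) = 0 := by
      rw [opM_pow_comp S σ hσ, h2]; rfl
    rw [hker, hj01] at h3
    exact exists_of_deltaOp_pow ι 1 _ h3
  · apply affine_of_invariant ι (j0 - 1) (by omega) (by omega) σ
    intro P hP
    have hj' : j0 - 1 + 1 = j0 := by omega
    have h1 : (deltaOp ^ (j0 - 1 + 1)) (evf ι P) = 0 :=
      deltaOp_pow_evf_eq_zero ι (j0 - 1) P hP
    have h2 : (opM S ^ 1) (evf ι P) = 0 := by
      rw [hker, mul_one]; rw [hj'] at h1; exact h1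
    have h3 : (opM S ^ 1) (evf ι P ∘ σ) = 0 := by
      rw [opM_pow_comp S σ hσ, h2]; rfl
    rw [hker, mul_one] at h3
    have h4 : (deltaOp ^ (j0 - 1 + 1)) (evf ι P ∘ σ) = 0 := by rw [hj']; exact h3
    exact exists_of_deltaOp_pow ι (j0 - 1) _ h4

/-- **Müller's lemma** (Burnside's theorem on groups of prime degree, Carlitz–McConnel):
a permutation `σ` of `F_p` preserving a proper nonempty "difference set" `S ⊂ F_p^*`
(`x - y ∈ S ↔ σ x - σ y ∈ S`) is affine. -/
theorem affine_of_diff_set (S : Finset (ZMod p)) (h0 : (0 : ZMod p) ∉ S) (hne : S.Nonempty)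
    (c : ZMod p) (hc0 : c ≠ 0) (hcS : c ∉ S) (σ : Equiv.Perm (ZMod p))
    (hσ : ∀ x y, x - y ∈ S ↔ σ x - σ y ∈ S) :
    ∀ x, σ x = (σ 1 - σ 0) * x + σ 0 := by
  classical
  by_cases hcard : 2 * S.card ≤ p - 1
  · exact affine_of_diff_set_aux S h0 hne hcard σ hσ
  · push Not at hcard
    let S' : Finset (ZMod p) := (Finset.univ.erase 0) \ S
    have hS'0 : (0 : ZMod p) ∉ S' := by simp [S']
    have hS'ne : S'.Nonempty := ⟨c, by simp [S', hc0, hcS]⟩
    have hS'card : 2 * S'.card ≤ p - 1 := by
      have hsub : S ⊆ Finset.univ.erase (0 : ZMod p) := by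
        intro s hs
        simp only [Finset.mem_erase, Finset.mem_univ, and_true]
        rintro rfl; exact h0 hs
      have h1 : S'.card = (Finset.univ.erase (0 : ZMod p)).card - S.card :=
        Finset.card_sdiff_of_subset hsub
      have h2 : (Finset.univ.erase (0 : ZMod p)).card = p - 1 := by
        rw [Finset.card_erase_of_mem (Finset.mem_univ _), Finset.card_univ, ZMod.card]
      omega
    apply affine_of_diff_set_aux S' hS'0 hS'ne hS'card σ
    intro x y
    simp only [S', Finset.mem_sdiff, Finset.mem_erase, Finset.mem_univ, and_true]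
    rw [hσ x y, sub_ne_zero, sub_ne_zero, σ.injective.ne_iff]

end final

end Cfsg.Agent.Helper20
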